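import Cfsg.Agent.H513.NilpLy
import Cfsg.Agent.CpAutLy.Row
import Cfsg.Agent.H394.PBTools_m3
import Cfsg.Agent.S0205
import Cfsg.Agent.Lib.InvolutionKernel
import Cfsg.Agent.H314.IMLy
import Cfsg.Agent.Lib.CoprimeHyperplane
import Cfsg.Agent.Classification.LocalCore
import Cfsg.Agent.S0015
import Mathlib
import Cfsg.Agent.H568.OddPair
import Cfsg.Agent.H417.Divs
import Cfsg.Agent.H314.LyOrb.NSeven
import Cfsg.Agent.H904.McLCent
import Cfsg.Agent.H541.AutFrattini
import Cfsg.Agent.H582.Ly.Three_m3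
import Cfsg.Agent.FastGrp
import Cfsg.Agent.Prune
set_option linter.all false

section
prune_inst 0x7ffcbdfbeffcafdfffff7e7ffefddffff9ecffffbcdffbfbffedfbdfafdf6be7d9e5f3adfbec58ff9ed6c2b610e87b43fbffeeffee6fdc7ffffd5ff45ffbffdfffffbd8c5196a8341ffe6ffffbf07fae7f3fffffffffffffffffffffffffffffffffffffffff

-- part: H799/PB/LyBase
section
set_option linter.all false
open scoped Cfsg.Agent.FastGrp

/-!
# Groups of Lyons type: commuting pairs `(y, t)`, `y` of odd prime order, `t` an involution (helper799, for S4826)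

`nn y t = |C(y) ∩ C(t)|` (of `Cfsg.Agent.CpAutLy.Types`).
-/

set_option autoImplicit false

namespace Cfsg.Agent.H799.PB

open Subgroup Equiv Cfsg
open Cfsg.Agent Cfsg.Agent.SporRec Cfsg.Agent.SporRec.TwoAn Cfsg.Agent.SporRec.LyType Cfsg.Agent.SporRec.LyFiveCore
open Cfsg.Agent.TypeM.McLFromLy Cfsg.Agent.CpAutLy.Cov Cfsg.Agent.CpAutLy.Types Cfsg.Agent.CpAut.Cyc

universe u

section

variable {G : Type u} [Group G]

/-- a lift of prime order `r ≠ 2` has a cycle type `r ^ k` -/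
theorem exists_type {C : Type*} [Group C] (K : Cover (Fin 11) C) {y : C} {r : ℕ} (hr : r.Prime) (hr2 : r ≠ 2)
    (hy : y ^ r = 1) (h1 : y ≠ 1) : ∃ k : ℕ, 0 < k ∧ r * k ≤ 11 ∧ (K.π y).cycleType = Multiset.replicate k r := by
  have hodd : Odd r := hr.odd_of_ne_two hr2
  have hσ1 : K.π y ≠ 1 := π_ne_one K hodd hy h1
  have hσr : (K.π y) ^ r = 1 := by rw [← map_pow, hy, map_one]
  have : Fact r.Prime := ⟨hr⟩
  have hct := Perm.cycleType_of_pow_prime_eq_one hσr
  refine ⟨(K.π y).cycleType.card, ?_, ?_, hct⟩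
  · by_contra hcon
    have : (K.π y).cycleType.card = 0 := by omega
    exact hσ1 (Perm.card_cycleType_eq_zero.1 this)
  · have h2 : (K.π y).cycleType.sum ≤ 11 := by
      rw [(K.π y).sum_cycleType]
      exact (Finset.card_le_univ _).trans (by simp)
    rw [hct, Multiset.sum_replicate, smul_eq_mul, mul_comm] at h2
    exact h2

/-- the centralizers in the double cover of the elements of odd prime order -/
theorem cent_cases {C : Type*} [Group C] (K : Cover (Fin 11) C) {y : C} {r : ℕ} (hr : r.Prime) (hr2 : r ≠ 2)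
    (hy : y ^ r = 1) (h1 : y ≠ 1) :
    (r = 3 ∧ ((K.π y).cycleType = {3} ∧ Nat.card ↥(centralizer ({y} : Set C)) = 120960 ∨
        Nat.card ↥(centralizer ({y} : Set C)) = 2160 ∨ Nat.card ↥(centralizer ({y} : Set C)) = 324)) ∨
      (r = 5 ∧ ((K.π y).cycleType = {5} ∧ Nat.card ↥(centralizer ({y} : Set C)) = 3600 ∨
        (K.π y).cycleType = {5, 5} ∧ Nat.card ↥(centralizer ({y} : Set C)) ∣ 100)) ∨
      (r = 7 ∧ Nat.card ↥(centralizer ({y} : Set C)) = 168) ∨
      (r = 11 ∧ Nat.card ↥(centralizer ({y} : Set C)) ∣ 22) := by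
  have hodd : Odd r := hr.odd_of_ne_two hr2
  obtain ⟨k, hk0, hk11, hct⟩ := exists_type K hr hr2 hy h1
  have hr11 : r ≤ 11 := (Nat.le_mul_of_pos_right r hk0).trans hk11
  have hr3 : r = 3 ∨ r = 5 ∨ r = 7 ∨ r = 11 := by
    interval_cases r <;> first
      | exact absurd rfl hr2
      | (exfalso; revert hr; decide)
      | omega
  have hod : ∀ m : ℕ, r * k ≤ 9 → HasOdd (K.π y) := fun _ h => by
    apply hasOdd_of_support
    rw [← (K.π y).sum_cycleType, hct, Multiset.sum_replicate, smul_eq_mul, mul_comm k r, Fintype.card_fin]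
    omega
  rcases hr3 with rfl | rfl | rfl | rfl
  · left
    refine ⟨rfl, ?_⟩
    rcases three_cases K hy h1 with h | h | h
    · exact Or.inl ⟨h, card_one K hy h⟩
    · exact Or.inr (Or.inl (card_two K hy h))
    · exact Or.inr (Or.inr (card_three K hy h))
  · right; left
    refine ⟨rfl, ?_⟩
    have hk : k = 1 ∨ k = 2 := by omega
    rcases hk with rfl | rfl
    · left
      refine ⟨hct, ?_⟩
      rw [CpAutLy.Cov.card_eq K hodd hy (hod 0 (by norm_num)), Equiv.Perm.nat_card_centralizer, hct]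
      decide
    · right
      refine ⟨hct, (card_cent_dvd K y).trans ?_⟩
      rw [Equiv.Perm.nat_card_centralizer, hct]
      decide
  · right; right; left
    refine ⟨rfl, ?_⟩
    have hk : k = 1 := by omega
    subst hk
    rw [CpAutLy.Cov.card_eq K hodd hy (hod 0 (by norm_num)), Equiv.Perm.nat_card_centralizer, hct]
    decide
  · right; right; right
    refine ⟨rfl, (card_cent_dvd K y).trans ?_⟩
    have hk : k = 1 := by omega
    subst hk
    rw [Equiv.Perm.nat_card_centralizer, hct]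
    decide

/-- the element of order five -/
theorem five_conj {L : LyType G} {f : G} (hf : Five L f) {y : G} (hyt : L.t * y = y * L.t) (hy5 : y ^ 5 = 1)
    (hct : (L.K.π (xc hyt)).cycleType = {5}) : ∃ g : G, g * y * g⁻¹ = f := by
  obtain ⟨ρ, hρ, hρc⟩ := exists_even_conj (σ := L.K.π (xc hyt)) (τ := L.K.π (xc hf.comm.symm)) (by
    rw [hct]
    have h1 : (L.K.π (xc hf.comm.symm)).IsCycle := hf.cyc
    rw [h1.cycleType]
    exact congrArg (fun n : ℕ => ({n} : Multiset ℕ)) hf.card.symm) (by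
    rw [← (L.K.π _).sum_cycleType, hct]
    decide)
  obtain ⟨c, hc⟩ := CpAut.Cyc.exists_conj L.K (n := 5) (by decide) (y := xc hyt) (y' := xc hf.comm.symm)
    (Subtype.ext hy5) (Subtype.ext hf.pow) hρ hρc
  exact ⟨c, congrArg Subtype.val hc⟩

/-- the orders of the centralizers of the pairs -/
theorem nn_table (L : LyType G) {f : G} (hf : Five L f) {y t : G} {r : ℕ} (hr : r.Prime) (hr2 : r ≠ 2)
    (hy : orderOf y = r) (ht : orderOf t = 2) (hty : t * y = y * t) :
    (r = 3 ∧ (nn y t = 120960 ∨ nn y t = 2160 ∨ nn y t = 324)) ∨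
      (r = 5 ∧ ((∃ g : G, g * y * g⁻¹ = f) ∧ nn y t = 3600 ∨ nn y t ∣ 100)) ∨
      (r = 7 ∧ nn y t = 168) ∨ (r = 11 ∧ nn y t ∣ 22) := by
  have h1 : t * t = 1 := by rw [← pow_two, ← ht, pow_orderOf_eq_one]
  have h2 : t ≠ 1 := by
    intro h
    rw [h, orderOf_one] at ht
    norm_num at ht
  obtain ⟨g, hg⟩ := L.conj_of_involutions h1 h2 L.t_mul_t L.t_ne
  have hy' : orderOf (g * y * g⁻¹) = r := by rw [CpAutLy.McLThree.orderOf_conj', hy]
  have hty' : L.t * (g * y * g⁻¹) = g * y * g⁻¹ * L.t := by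
    rw [← hg]; exact CpAutLy.McLThree.conj_comm g hty
  have hn : nn y t = nn (g * y * g⁻¹) L.t := by rw [← hg, nn_conj]
  have hyr : (g * y * g⁻¹) ^ r = 1 := by rw [← hy', pow_orderOf_eq_one]
  have hy1 : g * y * g⁻¹ ≠ 1 := by
    intro h
    rw [h, orderOf_one] at hy'
    exact hr.one_lt.ne hy'
  rw [hn, ← nn_eq hty']
  rcases cent_cases L.K hr hr2 (y := xc hty') (Subtype.ext hyr) (fun h => hy1 (congrArg Subtype.val h)) with
    ⟨h3, h⟩ | ⟨h3, h⟩ | ⟨h3, h⟩ | ⟨h3, h⟩
  · left
    refine ⟨h3, ?_⟩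
    rcases h with h | h | h
    · exact Or.inl h.2
    · exact Or.inr (Or.inl h)
    · exact Or.inr (Or.inr h)
  · right; left
    refine ⟨h3, ?_⟩
    rcases h with h | h
    · left
      subst h3
      obtain ⟨c, hc⟩ := five_conj hf hty' hyr h.1
      refine ⟨⟨c * g, ?_⟩, h.2⟩
      rw [← hc]
      group
    · exact Or.inr h.2
  · exact Or.inr (Or.inr (Or.inl ⟨h3, h⟩))
  · exact Or.inr (Or.inr (Or.inr ⟨h3, h⟩))

end

end Cfsg.Agent.H799.PB
end

-- part: H799/PB/LyEasy
section
set_option linter.all false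
open scoped Cfsg.Agent.FastGrp

/-!
# Groups of Lyons type: the centralizers of the Sylow 2- and 5-subgroups (helper799, for S4826)

* `nb_two`, `nb_five` : `NB 2 1 G`, `NB 5 1 G`;
* `cent_core_le` : `C_G(E) ≤ E`, `E = O(C(f))` extraspecial of order `5 ^ 5`.
-/

set_option autoImplicit false

namespace Cfsg.Agent.H799.PB

open Subgroup Equiv Cfsg
open Cfsg.Agent Cfsg.Agent.SporRec Cfsg.Agent.SporRec.TwoAn Cfsg.Agent.SporRec.LyType Cfsg.Agent.SporRec.LyFiveCore
open Cfsg.Agent.TypeM.McLFromLy Cfsg.Agent.CpAutLy.Cov Cfsg.Agent.CpAutLy.Types Cfsg.Agent.CpAut.Cyc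
open Cfsg.Agent.SporRec.LyFiveExtra Cfsg.Agent.SporRec.LyFiveSix
open Cfsg.Agent.H709.PB Cfsg.Agent.H394.PBTools

universe u

section gen

variable {G : Type u} [Group G] [Finite G]

/-- a central element of order `p` of a nontrivial `p`-subgroup -/
theorem exists_central {p : ℕ} [hp : Fact p.Prime] {T : Subgroup G} (hT : IsPGroup p T) (h1 : T ≠ ⊥) :
    ∃ e ∈ T, orderOf e = p ∧ ∀ t ∈ T, t * e = e * t := by
  have : Nontrivial T := (Subgroup.nontrivial_iff_ne_bot T).2 h1
  have hc := hT.center_nontrivial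
  have h2 : p ∣ Nat.card ↥(center T) := by
    obtain ⟨n, hn⟩ := IsPGroup.iff_card.1 (hT.to_subgroup (center T))
    rw [hn]
    have h3 : 1 < Nat.card ↥(center T) := Finite.one_lt_card
    rcases Nat.eq_zero_or_pos n with h | h
    · rw [h, pow_zero] at hn
      omega
    · exact dvd_pow_self p h.ne'
  obtain ⟨e, he⟩ := exists_prime_orderOf_dvd_card' p h2
  refine ⟨((e : T) : G), (e : T).2, ?_, ?_⟩
  · rw [Subgroup.orderOf_coe, Subgroup.orderOf_coe, he]
  · intro t ht
    exact congrArg Subtype.val (mem_center_iff.1 e.2 ⟨t, ht⟩)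

/-- a group of order `m` or `2 m`, `m` odd, is solvable -/
theorem solvable_of_not_four (h : ¬ 4 ∣ Nat.card G) : Group.IsSolvable G := by
  by_cases h2 : 2 ∣ Nat.card G
  · have : Fact (Nat.Prime 2) := ⟨Nat.prime_two⟩
    obtain ⟨t, ht⟩ := exists_prime_orderOf_dvd_card' (G := G) 2 h2
    have htt : t * t = 1 := by rw [← pow_two, ← ht, pow_orderOf_eq_one]
    have ht1 : t ≠ 1 := by
      rintro rfl
      rw [orderOf_one] at ht
      norm_num at ht
    obtain ⟨K, hKn, hKo, hKi, -⟩ := Cfsg.Agent.Lib.InvolutionKernel.exists_odd_index_two htt ht1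
      (fun h' => h (h'.trans (Subgroup.card_subgroup_dvd_card _)))
    have hq : Group.IsSolvable (G ⧸ K) := by
      have h3 : IsPGroup 2 (G ⧸ K) := IsPGroup.of_card (n := 1) (by rw [pow_one]; exact hKi)
      have : Group.IsNilpotent (G ⧸ K) := h3.isNilpotent
      infer_instance
    exact (Group.isSolvable_iff_subgroup_quotient K).mpr ⟨Cfsg.Agent.S0205.result hKo, hq⟩
  · exact Cfsg.Agent.S0205.result (Nat.not_even_iff_odd.mp fun h' => h2 (even_iff_two_dvd.mp h'))

end gen

section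

variable {G : Type u} [Group G] [Finite G]

/-- the centralizer of a Sylow 2-subgroup is a 2-group -/
theorem nb_two (L : LyType G) (hcard : Nat.card G = 51765179004000000) : NB 2 1 G := by
  classical
  have : Fact (Nat.Prime 2) := ⟨Nat.prime_two⟩
  obtain ⟨f, hf⟩ := LyFiveFinal.exists_five L
  obtain ⟨Q⟩ : Nonempty (Sylow 2 G) := inferInstance
  have h8 : 2 ^ 8 ∣ Nat.card Q := Q.pow_dvd_card_of_pow_dvd_card (by rw [hcard]; norm_num)
  have hQ1 : (Q : Subgroup G) ≠ ⊥ := by
    intro h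
    have h9 : Nat.card (Q : Subgroup G) = 1 := by rw [h, Subgroup.card_bot]
    rw [h9] at h8
    revert h8
    decide
  obtain ⟨s, hs, hs2, hsc⟩ := exists_central Q.isPGroup' hQ1
  refine NB.of_sylow Q (isPGroup_of_primes _ fun r hr hr2 hd => ?_)
  have : Fact r.Prime := ⟨hr⟩
  obtain ⟨y', hy'⟩ := exists_prime_orderOf_dvd_card' r hd
  obtain ⟨y, hyC, hy⟩ : ∃ y : G, y ∈ centralizer ((Q : Subgroup G) : Set G) ∧ orderOf y = r :=
    ⟨y', y'.2, by rw [Subgroup.orderOf_coe, hy']⟩
  rw [mem_centralizer_iff] at hyC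
  have hsy : s * y = y * s := hyC s hs
  have hle : (Q : Subgroup G) ≤ centralizer ({y} : Set G) ⊓ centralizer ({s} : Set G) := fun q hq =>
    ⟨mem_centralizer_singleton_iff.2 (hyC q hq), mem_centralizer_singleton_iff.2 (hsc q hq)⟩
  have h9 : 2 ^ 8 ∣ nn y s := h8.trans (card_dvd_of_le hle)
  rcases nn_table L hf hr hr2 hy hs2 hsy with ⟨-, h | h | h⟩ | ⟨-, h | h⟩ | ⟨-, h⟩ | ⟨-, h⟩
  · rw [h] at h9; revert h9; decide
  · rw [h] at h9; revert h9; decide
  · rw [h] at h9; revert h9; decide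
  · rw [h.2] at h9; revert h9; decide
  · have := h9.trans h; revert this; decide
  · rw [h] at h9; revert h9; decide
  · have := h9.trans h; revert this; decide

variable {L : LyType G} {f : G} (hf : Five L f)
include hf

theorem extra : Extraspecial hf := by
  obtain ⟨⟨hE⟩, -⟩ := LyFiveFinal.exists_lyFive hf
  exact hE

theorem fin : FiveIn L.t f (core f) (Sx hf) := fiveIn hf (extra hf).card

theorem isPGroup_core : IsPGroup 5 ↥(core f) := IsPGroup.of_card (extra hf).card

/-- `C_G(E) ≤ E` -/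
theorem cent_core_le : centralizer ((core f : Subgroup G) : Set G) ≤ core f := by
  have h := fin hf
  intro x hx
  rw [mem_centralizer_iff] at hx
  have hxf : x * f = f * x := (hx f h.mem).symm
  obtain ⟨k, hk, s, hs, rfl⟩ := h.fac x hxf
  -- the elements `s` of `S` such that `k s` centralizes `E` for some `k`
  let N : Subgroup ↥(Sx hf) :=
    { carrier := {s | ∃ k ∈ core f, ∀ e ∈ core f, e * (k * (s : G)) = k * (s : G) * e}
      one_mem' := ⟨1, one_mem _, fun e _ => by simp⟩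
      mul_mem' := by
        rintro a b ⟨k, hk, hka⟩ ⟨l, hl, hlb⟩
        refine ⟨k * ((a : G) * l * (a : G)⁻¹), mul_mem hk (h.S_norm a.2 hl), fun e he => ?_⟩
        have e1 : k * ((a : G) * l * (a : G)⁻¹) * ((a * b : ↥(Sx hf)) : G) = k * a * (l * b) := by
          rw [Subgroup.coe_mul]
          group
        rw [e1, ← mul_assoc, hka e he, mul_assoc, hlb e he, ← mul_assoc]
      inv_mem' := by
        rintro a ⟨k, hk, hka⟩
        refine ⟨(a : G)⁻¹ * k⁻¹ * a, ?_, fun e he => ?_⟩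
        · have := h.S_norm (inv_mem a.2) (inv_mem hk)
          rwa [inv_inv] at this
        · have e1 : (a : G)⁻¹ * k⁻¹ * a * ((a⁻¹ : ↥(Sx hf)) : G) = (k * a)⁻¹ := by
            rw [Subgroup.coe_inv]
            group
          rw [e1]
          have h1 := hka e he
          calc e * (k * (a : G))⁻¹ = (k * (a : G))⁻¹ * (k * a * e) * (k * (a : G))⁻¹ := by group
            _ = (k * (a : G))⁻¹ * (e * (k * a)) * (k * (a : G))⁻¹ := by rw [h1]
            _ = (k * (a : G))⁻¹ * e := by group }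
  have hN : N.Normal := by
    refine ⟨fun a ha g => ?_⟩
    obtain ⟨k, hk, hka⟩ := ha
    refine ⟨(g : G) * k * (g : G)⁻¹, h.S_norm g.2 hk, fun e he => ?_⟩
    have h1 : (g : G)⁻¹ * e * g ∈ core f := by
      have := h.S_norm (inv_mem g.2) he
      rwa [inv_inv] at this
    have h2 := hka _ h1
    have e1 : (g : G) * k * (g : G)⁻¹ * ((g * a * g⁻¹ : ↥(Sx hf)) : G) = g * (k * a) * (g : G)⁻¹ := by
      rw [Subgroup.coe_mul, Subgroup.coe_mul, Subgroup.coe_inv]
      group
    rw [e1]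
    calc e * ((g : G) * (k * a) * (g : G)⁻¹) = g * ((g : G)⁻¹ * e * g * (k * a)) * (g : G)⁻¹ := by group
      _ = g * (k * a * ((g : G)⁻¹ * e * g)) * (g : G)⁻¹ := by rw [h2]
      _ = g * (k * a) * (g : G)⁻¹ * e := by group
  have ht : (⟨L.t, h.six.t_mem⟩ : ↥(Sx hf)) ∉ N := by
    rintro ⟨k, hk, hkt⟩
    -- `t` acts on `E` as `k⁻¹`, hence trivially modulo `⟨f⟩`
    have hle : core f ≤ zpowers f := by
      intro e he
      have h1 : e * (k * L.t) = k * L.t * e := hkt e he
      have h2 := h.inv e he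
      have h3 : L.t * e * L.t⁻¹ = k⁻¹ * e * k := by
        have h4 : L.t * e = k⁻¹ * e * (k * L.t) := by
          rw [mul_assoc, h1]
          group
        rw [h4]
        group
      rw [h3] at h2
      have h5 := (extra hf).commutator _ (inv_mem hk) e he
      rw [inv_inv] at h5
      -- `k⁻¹ e k e⁻¹ ∈ ⟨f⟩`, `k⁻¹ e k e ∈ ⟨f⟩`
      have h6 : e * e ∈ zpowers f := by
        have h7 := mul_mem (inv_mem h5) h2
        have h8 : (k⁻¹ * e * k * e⁻¹)⁻¹ * (k⁻¹ * e * k * e) = e * e := by group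
        rwa [h8] at h7
      have h9 : e ^ 5 = 1 := (extra hf).pow_five e he
      have h10 : e = e ^ 5 * (e * e)⁻¹ * (e * e)⁻¹ := by group
      rw [h10, h9, one_mul]
      exact mul_mem (inv_mem h6) (inv_mem h6)
    have h2 := card_dvd_of_le hle
    rw [h.card, h.card_F] at h2
    revert h2
    decide
  have h1 : (⟨s, hs⟩ : ↥(Sx hf)) ∈ N := ⟨k, hk, fun e he => hx e he⟩
  rw [h.six.norm N hN ht, mem_bot] at h1
  have h2 : s = 1 := congrArg Subtype.val h1
  rw [h2, mul_one]
  exact hk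

/-- the centralizer of a Sylow 5-subgroup is a 5-group -/
theorem nb_five : NB 5 1 G := by
  have : Fact (Nat.Prime 5) := ⟨Nat.prime_five⟩
  obtain ⟨Q, hQ⟩ := (isPGroup_core hf).exists_le_sylow
  exact NB.of_sylow Q ((isPGroup_core hf).to_le ((Subgroup.centralizer_le hQ).trans (cent_core_le hf)))

end

end Cfsg.Agent.H799.PB
end

-- part: H799/PB/RowLyA
section
set_option linter.all false
open scoped Cfsg.Agent.FastGrp

/-!
# S4826, the Lyons group: the primes `p ≠ 7` (helper799)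
-/

set_option autoImplicit false

namespace Cfsg.Agent.H799.PB

open Subgroup Cfsg
open Cfsg.Agent Cfsg.Agent.SporRec Cfsg.Agent.H133.PB Cfsg.Agent.H709.PB Cfsg.Agent.H394.PBTools
open Cfsg.Agent.H314.LyOrb Cfsg.Agent.SporRec.LyType

universe u

/-- the Lyons group as a group of Lyons type -/
theorem exists_lyType : ∃ (L : LyType Cfsg.Spor.Ly) (f : Cfsg.Spor.Ly), LyFiveCore.Five L f := by
  obtain ⟨M⟩ := TypeM.FactsLy.exists_mt_ly
  let L : LyType Cfsg.Spor.Ly := { t := M.t, K := M.K, hz := M.hz, one := M.one }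
  have : Finite Cfsg.Spor.Ly := Cfsg.Agent.Ly.Setup.finite_ly
  obtain ⟨f, hf⟩ := LyFiveFinal.exists_five L
  exact ⟨L, f, hf⟩

theorem nb_two_ly : NB 2 1 Cfsg.Spor.Ly := by
  have : Finite Cfsg.Spor.Ly := Cfsg.Agent.Ly.Setup.finite_ly
  obtain ⟨L, f, hf⟩ := exists_lyType
  exact nb_two L Cfsg.Agent.Ly.Setup.card_ly

theorem nb_five_ly : NB 5 1 Cfsg.Spor.Ly := by
  have : Finite Cfsg.Spor.Ly := Cfsg.Agent.Ly.Setup.finite_ly
  obtain ⟨L, f, hf⟩ := exists_lyType
  exact nb_five hf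

/-- all primes, from the prime 7 -/
theorem row_of_seven (h7 : Row 7 Cfsg.Spor.Ly) {p : ℕ} (hp : p.Prime) (hd : p ∣ Nat.card Cfsg.Spor.Ly) :
    Row p Cfsg.Spor.Ly := by
  have : Finite Cfsg.Spor.Ly := Cfsg.Agent.Ly.Setup.finite_ly
  obtain ⟨χ, -, hχ⟩ := exists_deg_ly
  have h4 : charDegree (χ 4 : Cfsg.Spor.Ly → ℂ) = 4226695 := hχ 4
  have h3 : charDegree (χ 3 : Cfsg.Spor.Ly → ℂ) = 3028266 := hχ 3
  have key2 : p ≠ 2 → p ∣ 4226695 → Row p Cfsg.Spor.Ly := fun hne h =>
    Row.intro Nat.prime_two (Ne.symm hne) (by rw [Cfsg.Agent.Ly.Setup.card_ly]; norm_num)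
      (bd_of_nb nb_two_ly (χ 4) (by rw [h4]; norm_num) (by rw [h4]; exact h))
  have key5 : p ≠ 5 → p ∣ 3028266 → Row p Cfsg.Spor.Ly := fun hne h =>
    Row.intro Nat.prime_five (Ne.symm hne) (by rw [Cfsg.Agent.Ly.Setup.card_ly]; norm_num)
      (bd_of_nb nb_five_ly (χ 3) (by rw [h3]; norm_num) (by rw [h3]; exact h))
  rw [Cfsg.Agent.Ly.Setup.card_ly, show 51765179004000000 = 2 ^ 8 * 3 ^ 7 * 5 ^ 6 * 7 * 11 * 31 * 37 * 67 by norm_num,
    hp.dvd_mul, hp.dvd_mul, hp.dvd_mul, hp.dvd_mul, hp.dvd_mul, hp.dvd_mul, hp.dvd_mul] at hd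
  rcases hd with ((((((h | h) | h) | h) | h) | h) | h) | h
  · have := (Nat.prime_dvd_prime_iff_eq hp Nat.prime_two).1 (hp.dvd_of_dvd_pow h)
    subst this
    exact key5 (by norm_num) (by norm_num)
  · have := (Nat.prime_dvd_prime_iff_eq hp Nat.prime_three).1 (hp.dvd_of_dvd_pow h)
    subst this
    exact key5 (by norm_num) (by norm_num)
  · have := (Nat.prime_dvd_prime_iff_eq hp Nat.prime_five).1 (hp.dvd_of_dvd_pow h)
    subst this
    exact key2 (by norm_num) (by norm_num)
  · have := (Nat.prime_dvd_prime_iff_eq hp (by norm_num : Nat.Prime 7)).1 h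
    subst this
    exact h7
  · have := (Nat.prime_dvd_prime_iff_eq hp (by norm_num : Nat.Prime 11)).1 h
    subst this
    exact key2 (by norm_num) (by norm_num)
  · have := (Nat.prime_dvd_prime_iff_eq hp (by norm_num : Nat.Prime 31)).1 h
    subst this
    exact key2 (by norm_num) (by norm_num)
  · have := (Nat.prime_dvd_prime_iff_eq hp (by norm_num : Nat.Prime 37)).1 h
    subst this
    exact key2 (by norm_num) (by norm_num)
  · have := (Nat.prime_dvd_prime_iff_eq hp (by norm_num : Nat.Prime 67)).1 h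
    subst this
    exact key2 (by norm_num) (by norm_num)

end Cfsg.Agent.H799.PB
end

-- part: H799/PB/LyFiveC
section
prune_inst 0x4204000000000000000001000000040000004300000000120000502000082608080204008000402120082010001000000000010000000000000000000000000002212061140a000000000003005180c00000000000000000000000000000000000000000
set_option linter.all false
open scoped Cfsg.Agent.FastGrp

-- part: H799/PB/LyFiveB
section
/-!
# Groups of Lyons type: the centralizers of the elements of the extraspecial group `E` (helper799, for S4826)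

`E = O(C(f))`, extraspecial of order `5 ^ 5`, `x ∈ E`, `x ∉ ⟨f⟩`.

* `card_dvd_five` : `|B : C_B(y)|` divides 5 for `B ≤ E`, `y ∈ E`;
* `exists_noncomm` : `C_E(x)` is not abelian;
* `eq_bot` : a normal `5'`-subgroup of `C(x)` is trivial.
-/

set_option autoImplicit false

namespace Cfsg.Agent.H799.PB

open Subgroup Equiv Cfsg
open Cfsg.Agent Cfsg.Agent.SporRec Cfsg.Agent.SporRec.TwoAn Cfsg.Agent.SporRec.LyType Cfsg.Agent.SporRec.LyFiveCore
open Cfsg.Agent.SporRec.LyFiveExtra Cfsg.Agent.SporRec.LyFiveSix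

universe u

section

variable {G : Type u} [Group G] [Finite G] {L : LyType G} {f : G} (hf : Five L f)
include hf

theorem card_dvd_five {y : G} (hy : y ∈ core f) {B : Subgroup G} (hB : B ≤ core f) :
    Nat.card ↥B ∣ 5 * Nat.card ↥(B ⊓ centralizer ({y} : Set G)) := by
  have h := fin hf
  have hcom : ∀ b ∈ B, b * y * b⁻¹ * y⁻¹ ∈ zpowers f := fun b hb => (extra hf).commutator b (hB hb) y hy
  let φ : ↥B →* ↥(zpowers f) :=
    { toFun := fun b => ⟨(b : G) * y * (b : G)⁻¹ * y⁻¹, hcom b b.2⟩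
      map_one' := Subtype.ext (by change (1 : G) * y * (1 : G)⁻¹ * y⁻¹ = 1; group)
      map_mul' := fun b b' => Subtype.ext (by
        change (b : G) * b' * y * ((b : G) * b')⁻¹ * y⁻¹ = (b : G) * y * (b : G)⁻¹ * y⁻¹ * ((b' : G) * y * (b' : G)⁻¹ * y⁻¹)
        have h1 : (b : G) * ((b' : G) * y * (b' : G)⁻¹ * y⁻¹) = (b' : G) * y * (b' : G)⁻¹ * y⁻¹ * b :=
          h.comm_F (hB b.2) (hcom b' b'.2)
        have h2 : (b : G) * y * (b : G)⁻¹ * y⁻¹ * ((b' : G) * y * (b' : G)⁻¹ * y⁻¹) =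
            (b' : G) * y * (b' : G)⁻¹ * y⁻¹ * ((b : G) * y * (b : G)⁻¹ * y⁻¹) :=
          h.comm_F (h.F_le (hcom b b.2)) (hcom b' b'.2)
        rw [h2]
        calc (b : G) * b' * y * ((b : G) * b')⁻¹ * y⁻¹ =
            (b : G) * ((b' : G) * y * (b' : G)⁻¹ * y⁻¹) * (y * (b : G)⁻¹ * y⁻¹) := by group
          _ = (b' : G) * y * (b' : G)⁻¹ * y⁻¹ * b * (y * (b : G)⁻¹ * y⁻¹) := by rw [h1]
          _ = (b' : G) * y * (b' : G)⁻¹ * y⁻¹ * ((b : G) * y * (b : G)⁻¹ * y⁻¹) := by group) }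
  have hker : Nat.card φ.ker ∣ Nat.card ↥(B ⊓ centralizer ({y} : Set G)) := by
    have h1 : φ.ker.map B.subtype ≤ B ⊓ centralizer ({y} : Set G) := by
      rintro _ ⟨d, hd, rfl⟩
      have h2 : (d : G) * y * (d : G)⁻¹ * y⁻¹ = 1 := congrArg Subtype.val hd
      refine ⟨d.2, ?_⟩
      change (d : G) ∈ centralizer ({y} : Set G)
      rw [mem_centralizer_singleton_iff]
      calc (d : G) * y = (d : G) * y * (d : G)⁻¹ * y⁻¹ * (y * (d : G)) := by group
        _ = y * d := by rw [h2, one_mul]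
    have h3 := card_dvd_of_le h1
    rwa [card_map_of_injective B.subtype_injective] at h3
  have hran : Nat.card φ.range ∣ 5 := by
    rw [← h.card_F]
    exact card_subgroup_dvd_card _
  have h8 : Nat.card φ.range * Nat.card φ.ker = Nat.card B := by
    rw [← Nat.card_congr (QuotientGroup.quotientKerEquivRange φ).toEquiv, mul_comm]
    exact φ.ker.card_mul_index
  rw [← h8]
  exact Nat.mul_dvd_mul hran hker

/-- `|C_E(x)| ≥ 5 ^ 4` -/
theorem four_le {x : G} (hx : x ∈ core f) : 5 ^ 4 ∣ Nat.card ↥(core f ⊓ centralizer ({x} : Set G)) := by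
  have h1 := card_dvd_five hf hx (le_refl (core f))
  rw [(extra hf).card, pow_succ', Nat.mul_dvd_mul_iff_left (by norm_num)] at h1
  exact h1

/-- `C_E(x)` is not abelian -/
theorem exists_noncomm {x : G} (hx : x ∈ core f) (hxF : x ∉ zpowers f) :
    ∃ a ∈ core f ⊓ centralizer ({x} : Set G), ∃ b ∈ core f ⊓ centralizer ({x} : Set G), a * b ≠ b * a := by
  by_contra hcon
  push Not at hcon
  have hE := extra hf
  -- an element of `E` not commuting with `x`
  obtain ⟨e, he, hex⟩ : ∃ e ∈ core f, x * e ≠ e * x := by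
    by_contra h
    push Not at h
    exact hxF (hE.center x hx h)
  set Q := core f ⊓ centralizer ({x} : Set G) with hQ
  have h4 : 5 ^ 4 ∣ Nat.card ↥Q := four_le hf hx
  have h3 : 5 ^ 3 ∣ Nat.card ↥(Q ⊓ centralizer ({e} : Set G)) := by
    have h5 := h4.trans (card_dvd_five hf he (B := Q) inf_le_left)
    rw [pow_succ', Nat.mul_dvd_mul_iff_left (by norm_num)] at h5
    exact h5
  have hle : Q ⊓ centralizer ({e} : Set G) ≤ zpowers f := by
    intro b hb
    refine hE.center b hb.1.1 ?_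
    -- `C_E(b) = E`
    have hQb : Q ≤ core f ⊓ centralizer ({b} : Set G) := fun q hq =>
      ⟨hq.1, mem_centralizer_singleton_iff.2 (hcon q hq b hb.1)⟩
    have heb : e ∈ core f ⊓ centralizer ({b} : Set G) :=
      ⟨he, mem_centralizer_singleton_iff.2 (mem_centralizer_singleton_iff.1 hb.2).symm⟩
    have hne : Q ≠ core f ⊓ centralizer ({b} : Set G) := by
      intro h
      rw [← h] at heb
      exact hex (mem_centralizer_singleton_iff.1 heb.2).symm
    have h6 : Nat.card ↥Q ∣ Nat.card ↥(core f ⊓ centralizer ({b} : Set G)) := card_dvd_of_le hQb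
    have h7 : Nat.card ↥(core f ⊓ centralizer ({b} : Set G)) ∣ 5 ^ 5 := by
      rw [← hE.card]
      exact card_dvd_of_le inf_le_left
    obtain ⟨i, hi, hi2⟩ := (Nat.dvd_prime_pow Nat.prime_five).1 h7
    have h8 : i = 5 := by
      by_contra hi5
      have hi4 : i ≤ 4 := by omega
      apply hne
      apply eq_of_le_of_card_ge hQb
      rw [hi2]
      exact (Nat.pow_le_pow_right (by norm_num) hi4).trans (Nat.le_of_dvd Nat.card_pos h4)
    have h9 : core f ⊓ centralizer ({b} : Set G) = core f := by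
      apply eq_of_le_of_card_ge inf_le_left
      rw [hi2, h8, hE.card]
    intro k hk
    rw [← h9] at hk
    exact (mem_centralizer_singleton_iff.1 hk.2).symm
  have h5 := h3.trans (card_dvd_of_le hle)
  rw [(fin hf).card_F] at h5
  revert h5
  decide

/-- the elements of a normal `5'`-subgroup of `C(x)` commuting with `f` -/
theorem eq_one_of_comm {x : G} (hx : x ∈ core f) {W : Subgroup G} (hW : W ≤ centralizer ({x} : Set G))
    (hn : ∀ c : G, c * x = x * c → ∀ w ∈ W, c * w * c⁻¹ ∈ W) (h5 : (Nat.card ↥W).Coprime 5) {w : G} (hw : w ∈ W)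
    (hwf : w * f = f * w) : w = 1 := by
  have h := fin hf
  have hdis : ∀ g : G, g ∈ W → g ∈ core f → g = 1 := by
    intro g hg hg'
    have h1 : orderOf g ∣ Nat.card ↥W := W.orderOf_dvd_natCard hg
    have h2 : g ^ 5 = 1 := (extra hf).pow_five g hg'
    have h3 := Nat.dvd_gcd h1 (orderOf_dvd_of_pow_eq_one h2)
    rw [h5] at h3
    exact orderOf_eq_one_iff.1 (Nat.dvd_one.1 h3)
  have hnorm : ∀ k ∈ core f, w * k * w⁻¹ ∈ core f := fun k hk => h.norm w (by
    rw [hwf, mul_inv_cancel_right]; exact mem_zpowers f) k hk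
  have hwx : w * x = x * w := mem_centralizer_singleton_iff.1 (hW hw)
  -- `w` centralizes `C_E(x)`
  have hQ : ∀ q ∈ core f, q * x = x * q → w * q = q * w := by
    intro q hq hqx
    have h1 : w * q * w⁻¹ * q⁻¹ ∈ W := by
      have h2 := hn q hqx _ (inv_mem hw)
      have h3 : w * q * w⁻¹ * q⁻¹ = w * (q * w⁻¹ * q⁻¹) := by group
      rw [h3]
      exact mul_mem hw h2
    have h2 : w * q * w⁻¹ * q⁻¹ ∈ core f := mul_mem (hnorm q hq) (inv_mem hq)
    have h3 := hdis _ h1 h2
    calc w * q = w * q * w⁻¹ * q⁻¹ * (q * w) := by group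
      _ = q * w := by rw [h3, one_mul]
  apply hdis w hw
  apply cent_core_le hf
  rw [mem_centralizer_iff]
  intro e he
  -- `q = w e w⁻¹ e⁻¹` commutes with `x`
  have hq : w * e * w⁻¹ * e⁻¹ ∈ core f := mul_mem (hnorm e he) (inv_mem he)
  have hc : e * x * e⁻¹ * x⁻¹ ∈ zpowers f := (extra hf).commutator e he x hx
  have hwc : w * (e * x * e⁻¹ * x⁻¹) * w⁻¹ = e * x * e⁻¹ * x⁻¹ := by
    obtain ⟨n, hn'⟩ := hc
    have h1 : Commute w (f ^ n) := (show Commute w f from hwf).zpow_right n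
    have h2 : e * x * e⁻¹ * x⁻¹ = f ^ n := hn'.symm
    rw [h2, h1.eq, mul_inv_cancel_right]
  have hqx : w * e * w⁻¹ * e⁻¹ * x = x * (w * e * w⁻¹ * e⁻¹) := by
    -- `w e w⁻¹ x (w e w⁻¹)⁻¹ = w (e x e⁻¹ x⁻¹) w⁻¹ x = e x e⁻¹`
    have h1 : w * e * w⁻¹ * x * (w * e * w⁻¹)⁻¹ = e * x * e⁻¹ := by
      have h2 : w⁻¹ * x = x * w⁻¹ := by
        calc w⁻¹ * x = w⁻¹ * (x * w) * w⁻¹ := by group
          _ = w⁻¹ * (w * x) * w⁻¹ := by rw [hwx]
          _ = x * w⁻¹ := by group
      calc w * e * w⁻¹ * x * (w * e * w⁻¹)⁻¹ = w * e * (w⁻¹ * x) * (w * e * w⁻¹)⁻¹ := by group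
        _ = w * (e * x * e⁻¹ * x⁻¹) * w⁻¹ * (w * x * w⁻¹) := by rw [h2]; group
        _ = e * x * e⁻¹ * x⁻¹ * (x * w * w⁻¹) := by rw [hwc, hwx]
        _ = e * x * e⁻¹ := by group
    -- conjugate by `e⁻¹`
    have h3 : e⁻¹ * (w * e * w⁻¹) * x = x * (e⁻¹ * (w * e * w⁻¹)) := by
      calc e⁻¹ * (w * e * w⁻¹) * x = e⁻¹ * (w * e * w⁻¹ * x * (w * e * w⁻¹)⁻¹) * (w * e * w⁻¹) := by group
        _ = e⁻¹ * (e * x * e⁻¹) * (w * e * w⁻¹) := by rw [h1]
        _ = x * (e⁻¹ * (w * e * w⁻¹)) := by group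
    -- `w e w⁻¹ e⁻¹` and `e⁻¹ w e w⁻¹` differ by a central element
    have h4 : e * (e⁻¹ * (w * e * w⁻¹)) * e⁻¹ * (e⁻¹ * (w * e * w⁻¹))⁻¹ ∈ zpowers f :=
      (extra hf).commutator e he _ (mul_mem (inv_mem he) (hnorm e he))
    have h5' : x * (e * (e⁻¹ * (w * e * w⁻¹)) * e⁻¹ * (e⁻¹ * (w * e * w⁻¹))⁻¹) =
        e * (e⁻¹ * (w * e * w⁻¹)) * e⁻¹ * (e⁻¹ * (w * e * w⁻¹))⁻¹ * x := h.comm_F hx h4
    have h6 : w * e * w⁻¹ * e⁻¹ = e * (e⁻¹ * (w * e * w⁻¹)) * e⁻¹ * (e⁻¹ * (w * e * w⁻¹))⁻¹ *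
        (e⁻¹ * (w * e * w⁻¹)) := by group
    rw [h6, mul_assoc, h3, ← mul_assoc, ← h5', mul_assoc]
  have hqw := hQ _ hq hqx
  -- powers
  have hpow : ∀ n : ℕ, w ^ n * e * (w ^ n)⁻¹ = (w * e * w⁻¹ * e⁻¹) ^ n * e := by
    intro n
    induction n with
    | zero => simp
    | succ n ih =>
      have h1 : w ^ (n + 1) * e * (w ^ (n + 1))⁻¹ = w * (w ^ n * e * (w ^ n)⁻¹) * w⁻¹ := by
        rw [pow_succ']
        group
      have h2 : w * (w * e * w⁻¹ * e⁻¹) ^ n = (w * e * w⁻¹ * e⁻¹) ^ n * w :=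
        ((show Commute w (w * e * w⁻¹ * e⁻¹) from hqw).pow_right n).eq
      rw [h1, ih]
      calc w * ((w * e * w⁻¹ * e⁻¹) ^ n * e) * w⁻¹ = w * (w * e * w⁻¹ * e⁻¹) ^ n * e * w⁻¹ := by group
        _ = (w * e * w⁻¹ * e⁻¹) ^ n * w * e * w⁻¹ := by rw [h2]
        _ = (w * e * w⁻¹ * e⁻¹) ^ n * (w * e * w⁻¹ * e⁻¹) * e := by group
        _ = (w * e * w⁻¹ * e⁻¹) ^ (n + 1) * e := by rw [pow_succ]
  have h1 := hpow (orderOf w)
  rw [pow_orderOf_eq_one, one_mul, inv_one, mul_one] at h1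
  have h2 : (w * e * w⁻¹ * e⁻¹) ^ orderOf w = 1 := by
    have h3 : (w * e * w⁻¹ * e⁻¹) ^ orderOf w * e = 1 * e := by rw [← h1, one_mul]
    exact mul_right_cancel h3
  have h3 : (w * e * w⁻¹ * e⁻¹) ^ 5 = 1 := (extra hf).pow_five _ hq
  have h4 : (orderOf w).Coprime 5 := Nat.Coprime.coprime_dvd_left (W.orderOf_dvd_natCard hw) h5
  have h6 : w * e * w⁻¹ * e⁻¹ = 1 := by
    have h7 := Nat.dvd_gcd (orderOf_dvd_of_pow_eq_one h2) (orderOf_dvd_of_pow_eq_one h3)
    rw [h4] at h7
    exact orderOf_eq_one_iff.1 (Nat.dvd_one.1 h7)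
  calc e * w = 1 * (e * w) := by rw [one_mul]
    _ = w * e * w⁻¹ * e⁻¹ * (e * w) := by rw [h6]
    _ = w * e := by group

end

/-- a subgroup of index dividing `p` of a `p`-group contains the commutators -/
theorem comm_mem_of_index {Q : Type*} [Group Q] [Finite Q] {p : ℕ} [hp : Fact p.Prime] (hQ : IsPGroup p Q)
    (A : Subgroup Q) (h : A.index ∣ p) (a b : Q) : a * b * a⁻¹ * b⁻¹ ∈ A := by
  rcases (Nat.dvd_prime hp.out).1 h with h1 | h1
  · rw [Subgroup.index_eq_one.1 h1]
    exact mem_top _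
  · have hmin : (Nat.card Q).minFac = p := by
      obtain ⟨n, hn⟩ := IsPGroup.iff_card.1 hQ
      have h2 : A.index ∣ Nat.card Q := A.index_dvd_card
      rw [h1, hn] at h2
      have hn0 : n ≠ 0 := by
        rintro rfl
        rw [pow_zero] at h2
        exact hp.out.one_lt.ne' (Nat.dvd_one.1 h2)
      rw [hn, hp.out.pow_minFac hn0]
    have hnorm : A.Normal := Subgroup.normal_of_index_eq_minFac_card (h1.trans hmin.symm)
    have hq : Nat.card (Q ⧸ A) = p := h1
    have hc : IsCyclic (Q ⧸ A) := isCyclic_of_prime_card hq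
    rw [← QuotientGroup.eq_one_iff]
    change (a : Q ⧸ A) * (b : Q ⧸ A) * (a : Q ⧸ A)⁻¹ * (b : Q ⧸ A)⁻¹ = 1
    let _ := hc.commGroup
    have h3 : (a : Q ⧸ A) * (b : Q ⧸ A) = (b : Q ⧸ A) * (a : Q ⧸ A) := mul_comm _ _
    rw [h3, mul_inv_cancel_right, mul_inv_cancel]

/-- the number of elements of a set is divisible by `n` if the orders of the orbits are -/
theorem dvd_card_of_orbits {Q X : Type*} [Group Q] [MulAction Q X] [Finite X] {n : ℕ}
    (h : ∀ x : X, n ∣ Nat.card (MulAction.orbit Q x)) : n ∣ Nat.card X := by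
  classical
  have hfin : Finite (Quotient (MulAction.orbitRel Q X)) := Quotient.finite _
  have := Fintype.ofFinite (Quotient (MulAction.orbitRel Q X))
  rw [Nat.card_congr (MulAction.selfEquivSigmaOrbits Q X), Nat.card_sigma]
  exact Finset.dvd_sum fun x _ => h _

theorem arith {r n : ℕ} (hr : r.Prime) (h5 : r ≠ 5) (hn : n ≠ 0) (h : r ^ n ∣ 51765179004000000) : ¬ 25 ∣ r ^ n - 1 := by
  have h1 : r ∣ 51765179004000000 := (dvd_pow_self r hn).trans h
  rw [show 51765179004000000 = 2 ^ 8 * 3 ^ 7 * 5 ^ 6 * 7 * 11 * 31 * 37 * 67 by norm_num,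
    hr.dvd_mul, hr.dvd_mul, hr.dvd_mul, hr.dvd_mul, hr.dvd_mul, hr.dvd_mul, hr.dvd_mul] at h1
  have key : ∀ e : ℕ, ¬ r ^ (e + 1) ∣ 51765179004000000 → n ≤ e := fun e he => by
    by_contra hcon
    exact he ((pow_dvd_pow r (by omega)).trans h)
  rcases h1 with ((((((h | h) | h) | h) | h) | h) | h) | h
  · have := (Nat.prime_dvd_prime_iff_eq hr Nat.prime_two).1 (hr.dvd_of_dvd_pow h)
    subst this
    have h2 := key 8 (by norm_num)
    interval_cases n <;> first | exact absurd rfl hn | norm_num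
  · have := (Nat.prime_dvd_prime_iff_eq hr Nat.prime_three).1 (hr.dvd_of_dvd_pow h)
    subst this
    have h2 := key 7 (by norm_num)
    interval_cases n <;> first | exact absurd rfl hn | norm_num
  · exact absurd ((Nat.prime_dvd_prime_iff_eq hr Nat.prime_five).1 (hr.dvd_of_dvd_pow h)) h5
  · have := (Nat.prime_dvd_prime_iff_eq hr (by norm_num : Nat.Prime 7)).1 h
    subst this
    have h2 := key 1 (by norm_num)
    interval_cases n <;> first | exact absurd rfl hn | norm_num
  · have := (Nat.prime_dvd_prime_iff_eq hr (by norm_num : Nat.Prime 11)).1 h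
    subst this
    have h2 := key 1 (by norm_num)
    interval_cases n <;> first | exact absurd rfl hn | norm_num
  · have := (Nat.prime_dvd_prime_iff_eq hr (by norm_num : Nat.Prime 31)).1 h
    subst this
    have h2 := key 1 (by norm_num)
    interval_cases n <;> first | exact absurd rfl hn | norm_num
  · have := (Nat.prime_dvd_prime_iff_eq hr (by norm_num : Nat.Prime 37)).1 h
    subst this
    have h2 := key 1 (by norm_num)
    interval_cases n <;> first | exact absurd rfl hn | norm_num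
  · have := (Nat.prime_dvd_prime_iff_eq hr (by norm_num : Nat.Prime 67)).1 h
    subst this
    have h2 := key 1 (by norm_num)
    interval_cases n <;> first | exact absurd rfl hn | norm_num

section

variable {G : Type u} [Group G] [Finite G] {L : LyType G} {f : G} (hf : Five L f)
include hf

/-- **a normal `5'`-subgroup of `C(x)` is trivial** -/
theorem eq_bot (hcard : Nat.card G = 51765179004000000) {x : G} (hx : x ∈ core f) (hxF : x ∉ zpowers f)
    {W : Subgroup G} (hW : W ≤ centralizer ({x} : Set G))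
    (hn : ∀ c : G, c * x = x * c → ∀ w ∈ W, c * w * c⁻¹ ∈ W) (h5 : (Nat.card ↥W).Coprime 5) : W = ⊥ := by
  classical
  by_contra hne
  have h5F : Fact (Nat.Prime 5) := ⟨Nat.prime_five⟩
  have h5' : ¬ 5 ∣ Nat.card ↥W := fun h => by
    have h1 := Nat.dvd_gcd h (dvd_refl 5)
    rw [h5] at h1
    revert h1
    decide
  obtain ⟨r, hr, hrd⟩ := Nat.exists_prime_and_dvd (n := Nat.card ↥W) (fun h => hne (Subgroup.card_eq_one.1 h))
  have hrF : Fact r.Prime := ⟨hr⟩
  have hr5 : r ≠ 5 := by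
    rintro rfl
    exact h5' hrd
  set Q := core f ⊓ centralizer ({x} : Set G) with hQdef
  have hQ : IsPGroup 5 ↥Q := (isPGroup_core hf).to_le inf_le_left
  have hQW : Q ≤ normalizer (W : Set G) := by
    intro q hq
    have hqx : q * x = x * q := mem_centralizer_singleton_iff.1 hq.2
    have hqx' : q⁻¹ * x = x * q⁻¹ := by
      calc q⁻¹ * x = q⁻¹ * (x * q) * q⁻¹ := by group
        _ = q⁻¹ * (q * x) * q⁻¹ := by rw [hqx]
        _ = x * q⁻¹ := by group
    rw [mem_normalizer_iff]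
    intro w
    constructor
    · exact hn q hqx w
    · intro hw
      have h1 := hn q⁻¹ hqx' _ hw
      have h2 : q⁻¹ * (q * w * q⁻¹) * q⁻¹⁻¹ = w := by group
      rwa [h2] at h1
  obtain ⟨P, hP⟩ := Cfsg.Agent.Lib.CoprimeHyperplane.exists_invariant_sylow hQ hQW h5' r
  set R := (P : Subgroup ↥W).map W.subtype with hR
  have hRW : R ≤ W := map_subtype_le _
  have hRcard : Nat.card ↥R = Nat.card ↥P := card_map_of_injective W.subtype_injective
  obtain ⟨n, hn'⟩ := IsPGroup.iff_card.1 P.isPGroup'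
  have hRn : Nat.card ↥R = r ^ n := by rw [hRcard]; exact hn'
  have hn0 : n ≠ 0 := by
    rintro rfl
    have h1 := P.dvd_card_of_dvd_card hrd
    rw [hn', pow_zero] at h1
    exact hr.one_lt.ne' (Nat.dvd_one.1 h1)
  -- the action
  have hconj : ∀ q : ↥Q, ∀ w ∈ R, (q : G) * w * (q : G)⁻¹ ∈ R := fun q w hw =>
    (mem_normalizer_iff.1 (hP q.2) w).1 hw
  let X := {w : G // w ∈ R ∧ w ≠ 1}
  let act : MulAction ↥Q X :=
    { smul := fun q w => ⟨(q : G) * (w : G) * (q : G)⁻¹, hconj q w w.2.1, fun h => w.2.2 (conj_eq_one_iff.1 h)⟩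
      one_smul := fun w => Subtype.ext (by
        change (1 : G) * (w : G) * (1 : G)⁻¹ = w
        group)
      mul_smul := fun a b w => Subtype.ext (by
        change ((a : G) * b) * (w : G) * ((a : G) * b)⁻¹ = (a : G) * ((b : G) * w * (b : G)⁻¹) * (a : G)⁻¹
        group) }
  have hXcard : Nat.card X = r ^ n - 1 := by
    have h1 : Nat.card {w : ↥R // w ≠ 1} = Nat.card X := Nat.card_congr
      { toFun := fun w => ⟨((w : ↥R) : G), (w : ↥R).2, fun h => w.2 (Subtype.ext h)⟩
        invFun := fun w => ⟨⟨(w : G), w.2.1⟩, fun h => w.2.2 (congrArg Subtype.val h)⟩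
        left_inv := fun _ => rfl
        right_inv := fun _ => rfl }
    have := Fintype.ofFinite ↥R
    rw [← h1, ← hRn, Nat.card_eq_fintype_card, Nat.card_eq_fintype_card, Fintype.card_subtype_compl,
      Fintype.card_subtype_eq]
  obtain ⟨a, ha, b, hb, hab⟩ := exists_noncomm hf hx hxF
  have hdvd : 25 ∣ Nat.card X := by
    refine dvd_card_of_orbits (Q := ↥Q) fun w => ?_
    by_contra hcon
    have h1 : Nat.card (MulAction.orbit ↥Q w) * Nat.card (MulAction.stabilizer ↥Q w) = Nat.card ↥Q := by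
      rw [← Nat.card_prod]
      exact Nat.card_congr (MulAction.orbitProdStabilizerEquivGroup ↥Q w)
    obtain ⟨i, hi⟩ := IsPGroup.iff_card.1 hQ
    have h2 : Nat.card (MulAction.orbit ↥Q w) ∣ 5 ^ i := by
      rw [← hi, ← h1]
      exact dvd_mul_right _ _
    obtain ⟨j, -, hj⟩ := (Nat.dvd_prime_pow Nat.prime_five).1 h2
    have hj1 : j ≤ 1 := by
      by_contra hj2
      apply hcon
      rw [hj]
      exact pow_dvd_pow 5 (by omega : 2 ≤ j)
    have h3 : (MulAction.stabilizer ↥Q w).index ∣ 5 := by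
      have h4 := (MulAction.stabilizer ↥Q w).card_mul_index
      rw [← h1, mul_comm] at h4
      have h5 := Nat.eq_of_mul_eq_mul_right Nat.card_pos h4
      rw [h5, hj]
      exact pow_dvd_pow 5 hj1
    have h4 := comm_mem_of_index hQ _ h3 ⟨a, ha⟩ ⟨b, hb⟩
    rw [MulAction.mem_stabilizer_iff] at h4
    have h5c : a * b * a⁻¹ * b⁻¹ * (w : G) * (a * b * a⁻¹ * b⁻¹)⁻¹ = w := congrArg Subtype.val h4
    -- `f` is a power of the commutator
    have hc : a * b * a⁻¹ * b⁻¹ ∈ zpowers f := (extra hf).commutator a ha.1 b hb.1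
    have hc1 : a * b * a⁻¹ * b⁻¹ ≠ 1 := by
      intro h
      apply hab
      calc a * b = a * b * a⁻¹ * b⁻¹ * (b * a) := by group
        _ = b * a := by rw [h, one_mul]
    have h6 : zpowers (a * b * a⁻¹ * b⁻¹) = zpowers f := by
      apply eq_of_le_of_card_ge (zpowers_le.2 hc)
      rw [(fin hf).card_F]
      have h7 : Nat.card ↥(zpowers (a * b * a⁻¹ * b⁻¹)) ∣ 5 := by
        rw [← (fin hf).card_F]
        exact card_dvd_of_le (zpowers_le.2 hc)
      rcases (Nat.dvd_prime Nat.prime_five).1 h7 with h8 | h8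
      · exact absurd (zpowers_eq_bot.1 (Subgroup.card_eq_one.1 h8)) hc1
      · rw [h8]
    have h7 : f ∈ zpowers (a * b * a⁻¹ * b⁻¹) := by rw [h6]; exact mem_zpowers f
    obtain ⟨m, hm⟩ := h7
    have h8 : Commute (w : G) (a * b * a⁻¹ * b⁻¹) := by
      change (w : G) * (a * b * a⁻¹ * b⁻¹) = a * b * a⁻¹ * b⁻¹ * w
      conv_lhs => rw [← h5c]
      group
    have h9 : (w : G) * f = f * w := by
      have h10 := (h8.zpow_right m).eq
      have h11 : (a * b * a⁻¹ * b⁻¹) ^ m = f := hm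
      rwa [h11] at h10
    exact w.2.2 (eq_one_of_comm hf hx hW hn h5 (hRW w.2.1) h9)
  rw [hXcard] at hdvd
  refine arith hr hr5 hn0 ?_ hdvd
  rw [← hcard, ← hRn]
  exact card_subgroup_dvd_card _

end

end Cfsg.Agent.H799.PB
end

-- part: H799/PB/DBCenter
section
/-!
# The defects of the non-principal `q`-blocks from the centres of the large `q`-subgroups (helper799, for S4826)

`DB.of_center` : it is enough that every `q`-subgroup of order greater than `q ^ d` has a central element `x` of order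
`q` with `DB q d (C_G(x))`.
-/

set_option autoImplicit false

open Cfsg

namespace Cfsg.Agent.H799.PB

open Cfsg.Agent.Characters.Core Cfsg.Agent.Blocks.Basic Cfsg.Agent.Blocks.Local Cfsg.Agent.H644 Cfsg.Agent.H649
  Cfsg.Agent.H133.PB Cfsg.Agent.H709.PB

universe u

variable {G : Type u} [Group G] [Finite G] {q d : ℕ} [hq : Fact q.Prime]

/-- **From the centres of the large `q`-subgroups.** -/
theorem DB.of_center (h : ∀ D : Subgroup G, IsPGroup q D → d < (Nat.card D).factorization q →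
    ∃ x : G, x ∈ D ∧ (∀ y ∈ D, y * x = x * y) ∧ orderOf x = q ∧ DB q d (Subgroup.centralizer ({x} : Set G))) :
    DB q d G := by
  classical
  apply DB.of_defect
  intro M hM B hB hBne
  have hMp : M.IsPrime := isPrime_of_isPModular hM
  have := Fintype.ofFinite G
  obtain ⟨P, e, hmax⟩ := exists_maximal hM hB
  have hD := isDefectGroup_of_isMaximalBrauerPair hM hmax
  refine ⟨P, hD, ?_⟩
  have hPp : IsPGroup q P := hmax.1.1.1
  by_contra hcon
  push Not at hcon
  obtain ⟨x, hxP, hxc, hxo, hDB⟩ := h P hPp hcon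
  have hPC : P ≤ Subgroup.centralizer ((Subgroup.zpowers x : Subgroup G) : Set G) := by
    rw [centralizer_zpowers_eq]
    intro y hy
    rw [Subgroup.mem_centralizer_singleton_iff]
    exact hxc y hy
  have hQP : Subgroup.zpowers x ≤ P := Subgroup.zpowers_le.2 hxP
  obtain ⟨f, hf, -⟩ := existsUnique_subpairLE hM hmax.1.1 hQP
  have hfB : IsBrauerPairOf q M B (Subgroup.zpowers x) f := (isBrauerPairOf_iff_of_subpairLE hM hf).1 hmax.1
  obtain ⟨E, hE, hPE⟩ := exists_centralizer_defect hM hmax.1.1 hf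
  have hcard : Nat.card P ≤ Nat.card E := by
    have h3 := Subgroup.card_le_of_le hPE
    rwa [inf_eq_left.2 hPC, card_subgroupOf hPC] at h3
  -- `f` is not principal
  have hfnp : f ≠ principalBlock M (Subgroup.centralizer ((Subgroup.zpowers x : Subgroup G) : Set G)) := by
    intro hfp
    have hind := (isBrauerPairOf_iff_isInducedBlock hM hB hfB.1.1 hfB.1.2).1 hfB
    have h3 := inducedBlockDefined_centralizer hM hfB.1.1 hfB.1.2
    have h4 := (Cfsg.Agent.S0936.result q M hM _ f h3).2 hfp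
    have h5 := (isBrauerPairOf_iff_isInducedBlock hM (⟨⟨_, isIrrCharacter_one⟩, rfl⟩ :
      IsPBlock M (principalBlock M G)) hfB.1.1 hfB.1.2).2 h4
    obtain ⟨B'', -, h6⟩ := existsUnique_isBrauerPairOf hM hfB.1
    exact hBne ((h6 B hfB).trans (h6 _ h5).symm)
  have hDBx : DB q d (Subgroup.centralizer ((Subgroup.zpowers x : Subgroup G) : Set G)) :=
    hDB.of_equiv (MulEquiv.subgroupCongr (centralizer_zpowers_eq x))
  have hle : (Nat.card E).factorization q ≤ d := by
    refine Cfsg.Agent.H592.Defect.card_defect_le q hM hfB.1.2 hE fun ψ hψ => hDBx M hM ψ fun hψ' => hfnp ?_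
    exact isPBlock_eq_of_mem hfB.1.2 ⟨⟨_, isIrrCharacter_one⟩, rfl⟩ hψ hψ'
  have hle2 : (Nat.card P).factorization q ≤ (Nat.card E).factorization q := by
    obtain ⟨a, ha⟩ := IsPGroup.iff_card.1 hPp
    obtain ⟨b, hb⟩ := IsPGroup.iff_card.1 (Cfsg.Agent.H592.Defect.isPGroup_of_isDefectGroup hE)
    rw [ha, hb] at hcard
    rw [ha, hb, hq.out.factorization_pow, hq.out.factorization_pow, Finsupp.single_eq_same,
      Finsupp.single_eq_same]
    exact (Nat.pow_le_pow_iff_right hq.out.one_lt).1 hcard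
  omega

end Cfsg.Agent.H799.PB
end

-- part: H799/PB/LyFiveC
section
/-!
# Groups of Lyons type: the nonprincipal 5-blocks (helper799, for S4826)

* `not_four`, `solvable_of_ne` : `x` of order five not conjugate to `f`: `C(x)` is solvable;
* `centric` : `x ∈ E`, `x ∉ ⟨f⟩`, `x` not conjugate to `f`: `C(x)` has characteristic 5;
* `db_core` : `DB 5 0 C(x)` for `1 ≠ x ∈ E`; `nb_five_five` : `NB 5 5 G`.
-/

set_option autoImplicit false

namespace Cfsg.Agent.H799.PB

open Subgroup Equiv Cfsg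
open Cfsg.Agent Cfsg.Agent.SporRec Cfsg.Agent.SporRec.TwoAn Cfsg.Agent.SporRec.LyType Cfsg.Agent.SporRec.LyFiveCore
open Cfsg.Agent.TypeM.McLFromLy Cfsg.Agent.CpAutLy.Types Cfsg.Agent.CpAut.Cyc Cfsg.Agent.CpAut.CycFive
open Cfsg.Agent.SporRec.LyFiveExtra Cfsg.Agent.SporRec.LyFiveSix Cfsg.Agent.H709.PB

universe u

variable {G : Type u} [Group G] [Finite G] {L : LyType G} {f : G} (hf : Five L f)

include hf in
theorem not_four {x : G} (hx : orderOf x = 5) (hno : ∀ g : G, g * x * g⁻¹ ≠ f) :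
    ¬ 4 ∣ Nat.card ↥(centralizer ({x} : Set G)) := by
  intro h4
  have : Fact (Nat.Prime 2) := ⟨Nat.prime_two⟩
  obtain ⟨T, hT⟩ := Sylow.exists_subgroup_card_pow_prime 2 (G := ↥(centralizer ({x} : Set G))) (n := 2)
    (by rw [show 2 ^ 2 = 4 by norm_num]; exact h4)
  set T' := T.map (centralizer ({x} : Set G)).subtype with hT'
  have hcard : Nat.card ↥T' = 2 ^ 2 := by
    rw [hT', card_map_of_injective (subtype_injective _), hT]
  have hT2 : IsPGroup 2 ↥T' := IsPGroup.of_card hcard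
  obtain ⟨t', ht'T, ht', htc⟩ := exists_central hT2 (by
    intro h
    rw [h, Subgroup.card_bot] at hcard
    omega)
  have hx5 : x ^ 5 = 1 := by rw [← hx, pow_orderOf_eq_one]
  have hx1 : x ≠ 1 := by
    intro h
    rw [h, orderOf_one] at hx
    omega
  have hTx : ∀ s ∈ T', s * x = x * s := by
    rintro _ ⟨s, -, rfl⟩
    exact mem_centralizer_singleton_iff.1 s.2
  have h1 : t' * t' = 1 := by rw [← pow_two, ← ht', pow_orderOf_eq_one]
  have h2 : t' ≠ 1 := by
    intro h
    rw [h, orderOf_one] at ht'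
    norm_num at ht'
  obtain ⟨g, hg⟩ := L.conj_of_involutions h1 h2 L.t_mul_t L.t_ne
  have hty : L.t * (g * x * g⁻¹) = g * x * g⁻¹ * L.t := by
    rw [← hg]; exact CpAutLy.McLThree.conj_comm g (hTx t' ht'T)
  have hy5 : (g * x * g⁻¹) ^ 5 = 1 := by rw [conj_pow, hx5, mul_one, mul_inv_cancel]
  have hy1 : g * x * g⁻¹ ≠ 1 := fun h => hx1 (conj_eq_one_iff.1 h)
  rcases five_cases L.K (y := xc hty) (Subtype.ext hy5) (fun h => hy1 (congrArg Subtype.val h)) with hct | hct
  · obtain ⟨c, hc⟩ := five_conj hf hty hy5 hct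
    apply hno (c * g)
    rw [← hc]
    group
  · have hle : ∀ s ∈ T', s = 1 ∨ s = t' := by
      intro s hs
      have hst : L.t * (g * s * g⁻¹) = g * s * g⁻¹ * L.t := by
        rw [← hg]; exact CpAutLy.McLThree.conj_comm g (htc s hs).symm
      have hsx : g * s * g⁻¹ * (g * x * g⁻¹) = g * x * g⁻¹ * (g * s * g⁻¹) :=
        CpAutLy.McLThree.conj_comm g (hTx s hs)
      have hs4 : s ^ 2 ^ 2 = 1 := by
        have h3 := pow_card_eq_one' (x := (⟨s, hs⟩ : ↥T'))
        rw [hcard] at h3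
        exact congrArg Subtype.val h3
      have h4' : (g * s * g⁻¹) ^ 2 ^ 2 = 1 := by rw [conj_pow, hs4, mul_one, mul_inv_cancel]
      rcases two_elements L.K hct (g := xc hst) (Subtype.ext hsx) (k := 2) (Subtype.ext h4') with h | h
      · left
        exact conj_eq_one_iff.1 (congrArg Subtype.val h)
      · right
        have h5 : g * s * g⁻¹ = L.t := (congrArg Subtype.val h).trans L.hz
        rw [← hg] at h5
        exact mul_left_cancel (mul_right_cancel h5)
    have h5 : Nat.card ↥T' ≤ 2 := by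
      have h6 : (T' : Set G) ⊆ {1, t'} := fun s hs => by
        rcases hle s hs with h | h
        · exact Or.inl h
        · exact Or.inr h
      have h7 := Nat.card_mono (Set.toFinite ({1, t'} : Set G)) h6
      refine h7.trans ?_
      rw [Nat.card_coe_set_eq]
      exact (Set.ncard_insert_le _ _).trans (by simp)
    rw [hcard] at h5
    omega

include hf in
theorem solvable_of_ne {x : G} (hx : orderOf x = 5) (hno : ∀ g : G, g * x * g⁻¹ ≠ f) :
    Group.IsSolvable ↥(centralizer ({x} : Set G)) :=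
  solvable_of_not_four (not_four hf hx hno)

theorem orderOf_mem_core {x : G} (hx : x ∈ core f) (hx1 : x ≠ 1) (hf : Five L f) : orderOf x = 5 := by
  have : Fact (Nat.Prime 5) := ⟨Nat.prime_five⟩
  exact orderOf_eq_prime ((extra hf).pow_five x hx) hx1

include hf in
theorem pPrimeCore_eq_bot (hcard : Nat.card G = 51765179004000000) {x : G} (hx : x ∈ core f) (hxF : x ∉ zpowers f) :
    pPrimeCore 5 ↥(centralizer ({x} : Set G)) = ⊥ := by
  have hn := Cfsg.Agent.Lib.Cores.pPrimeCore_normal (G := ↥(centralizer ({x} : Set G))) 5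
  have h1 := eq_bot hf hcard hx hxF (W := (pPrimeCore 5 ↥(centralizer ({x} : Set G))).map
      (centralizer ({x} : Set G)).subtype) (map_subtype_le _) (by
    rintro c hc _ ⟨w, hw, rfl⟩
    refine ⟨(⟨c, mem_centralizer_singleton_iff.2 hc⟩ * w * ⟨c, mem_centralizer_singleton_iff.2 hc⟩⁻¹ :),
      hn.conj_mem w hw _, rfl⟩) (by
    rw [card_map_of_injective (subtype_injective _)]
    exact Cfsg.Agent.Lib.Cores.pPrimeCore_coprime 5)
  rwa [map_eq_bot_iff_of_injective _ (subtype_injective _)] at h1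

include hf in
/-- `C(x)` has characteristic 5 -/
theorem centric (hcard : Nat.card G = 51765179004000000) {x : G} (hx : x ∈ core f) (hxF : x ∉ zpowers f)
    (hno : ∀ g : G, g * x * g⁻¹ ≠ f) :
    centralizer ((pCore 5 ↥(centralizer ({x} : Set G)) : Subgroup _) : Set ↥(centralizer ({x} : Set G))) ≤
      pCore 5 ↥(centralizer ({x} : Set G)) := by
  have : Fact (Nat.Prime 5) := ⟨Nat.prime_five⟩
  have hx1 : x ≠ 1 := by
    rintro rfl
    exact hxF (one_mem _)
  have := solvable_of_ne hf (orderOf_mem_core hx hx1 hf) hno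
  exact Cfsg.Agent.Classification.LocalCore.centralizer_pCore_le 5 (pPrimeCore_eq_bot hf hcard hx hxF)

include hf in
theorem db_f : DB 5 0 ↥(centralizer ({f} : Set G)) := by
  have h := fin hf
  have hn : ((core f).subgroupOf (centralizer ({f} : Set G))).Normal := h.normal_K
  have h1 : IsPGroup 5 ↥((core f).subgroupOf (centralizer ({f} : Set G))) :=
    (isPGroup_core hf).of_equiv (Subgroup.subgroupOfEquivOfLe h.K_le).symm
  refine DB.of_centric ((core f).subgroupOf (centralizer ({f} : Set G))) h1 ?_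
  intro y hy
  rw [mem_subgroupOf]
  apply cent_core_le hf
  rw [mem_centralizer_iff] at hy ⊢
  intro e he
  exact congrArg Subtype.val (hy ⟨e, h.K_le he⟩ (mem_subgroupOf.2 he))

include hf in
theorem db_core (hcard : Nat.card G = 51765179004000000) {x : G} (hx : x ∈ core f) (hx1 : x ≠ 1) :
    DB 5 0 ↥(centralizer ({x} : Set G)) := by
  have : Fact (Nat.Prime 5) := ⟨Nat.prime_five⟩
  by_cases hno : ∃ g : G, g * x * g⁻¹ = f
  · obtain ⟨g, hg⟩ := hno
    exact (db_f hf).of_equiv (CpAutLy.McLThree.centEquiv hg)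
  push Not at hno
  by_cases hxF : x ∈ zpowers f
  · -- `C(x) = C(f)`
    have h1 : zpowers x = zpowers f := by
      apply eq_of_le_of_card_ge (zpowers_le.2 hxF)
      rw [(fin hf).card_F, Nat.card_zpowers, orderOf_mem_core hx hx1 hf]
    have h2 : centralizer ({x} : Set G) = centralizer ({f} : Set G) := by
      ext y
      rw [mem_centralizer_singleton_iff, mem_centralizer_singleton_iff]
      have h3 : x ∈ zpowers f := hxF
      have h4 : f ∈ zpowers x := by rw [h1]; exact mem_zpowers f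
      obtain ⟨n, hn⟩ := h3
      obtain ⟨m, hm⟩ := h4
      constructor
      · intro h
        have := ((show Commute y x from h).zpow_right m).eq
        have e : x ^ m = f := hm
        rwa [e] at this
      · intro h
        have := ((show Commute y f from h).zpow_right n).eq
        have e : f ^ n = x := hn
        rwa [e] at this
    rw [h2]
    exact db_f hf
  · have hn := Cfsg.Agent.Lib.Cores.pCore_normal (G := ↥(centralizer ({x} : Set G))) 5
    exact DB.of_centric (pCore 5 ↥(centralizer ({x} : Set G))) (Cfsg.Agent.Lib.Cores.pCore_isPGroup 5)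
      (centric hf hcard hx hxF hno)

/-- a Sylow 5-subgroup between `E` and `C(f)` -/
theorem exists_sylow (hf : Five L f) (hcard : Nat.card G = 51765179004000000) :
    ∃ S : Sylow 5 G, core f ≤ S ∧ (S : Subgroup G) ≤ centralizer ({f} : Set G) ∧ Nat.card ↥S = 5 ^ 6 := by
  have : Fact (Nat.Prime 5) := ⟨Nat.prime_five⟩
  have h := fin hf
  have h1 : IsPGroup 5 ↥((core f).subgroupOf (centralizer ({f} : Set G))) :=
    (isPGroup_core hf).of_equiv (Subgroup.subgroupOfEquivOfLe h.K_le).symm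
  obtain ⟨P, hP⟩ := h1.exists_le_sylow
  have h6 : 5 ^ 6 ∣ Nat.card ↥P := P.pow_dvd_card_of_pow_dvd_card (by
    rw [(extra hf).card_centralizer]
    norm_num)
  set P' := (P : Subgroup ↥(centralizer ({f} : Set G))).map (centralizer ({f} : Set G)).subtype with hP'
  have hP'c : Nat.card ↥P' = Nat.card ↥P := card_map_of_injective (subtype_injective _)
  have hP'p : IsPGroup 5 ↥P' := P.isPGroup'.map _
  obtain ⟨S, hS⟩ := hP'p.exists_le_sylow
  have hS6 : Nat.card ↥S = 5 ^ 6 := by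
    obtain ⟨n, hn⟩ := IsPGroup.iff_card.1 S.isPGroup'
    have h2 : 5 ^ 6 ∣ Nat.card ↥S := by
      rw [← hP'c] at h6
      exact h6.trans (card_dvd_of_le hS)
    have h3 : Nat.card ↥S ∣ Nat.card G := card_subgroup_dvd_card _
    rw [hcard] at h3
    have hn' : Nat.card ↥S = 5 ^ n := hn
    rw [hn'] at h2 h3 ⊢
    have h4 := (Nat.pow_dvd_pow_iff_le_right (by norm_num : 1 < 5)).1 h2
    have h5 : n ≤ 6 := by
      by_contra hcon
      have h6 : 5 ^ 7 ∣ 51765179004000000 := (pow_dvd_pow 5 (by omega)).trans h3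
      revert h6
      norm_num
    rw [le_antisymm h5 h4]
  have hSP : P' = (S : Subgroup G) := by
    apply eq_of_le_of_card_ge hS
    have hS6' : Nat.card ↥(S : Subgroup G) = 5 ^ 6 := hS6
    rw [hS6', hP'c]
    exact Nat.le_of_dvd Nat.card_pos h6
  refine ⟨S, ?_, ?_, hS6⟩
  · rw [← hSP]
    intro e he
    exact ⟨⟨e, h.K_le he⟩, hP (mem_subgroupOf.2 he), rfl⟩
  · rw [← hSP]
    exact map_subtype_le _

include hf in
/-- every 5-subgroup of order at least 25 has a central element which is conjugate into `E` -/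
theorem exists_central_core (hcard : Nat.card G = 51765179004000000) {D : Subgroup G} (hD : IsPGroup 5 ↥D)
    (h25 : 25 ∣ Nat.card ↥D) : ∃ x ∈ D, (∀ y ∈ D, y * x = x * y) ∧ x ≠ 1 ∧ ∃ g : G, g * x * g⁻¹ ∈ core f := by
  have : Fact (Nat.Prime 5) := ⟨Nat.prime_five⟩
  have h := fin hf
  obtain ⟨S, hES, hSf, hS6⟩ := exists_sylow hf hcard
  obtain ⟨Q, hQ⟩ := hD.exists_le_sylow
  obtain ⟨g, hg⟩ := MulAction.exists_smul_eq G Q S
  -- `D' = g D g⁻¹ ≤ S`
  set D' := D.map (MulAut.conj g).toMonoidHom with hD'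
  have hD'S : D' ≤ S := by
    rw [← hg]
    rintro _ ⟨d, hd, rfl⟩
    exact ⟨d, hQ hd, rfl⟩
  have hD'c : Nat.card ↥D' = Nat.card ↥D := card_map_of_injective (MulAut.conj g).injective
  have hD'p : IsPGroup 5 ↥D' := hD.map _
  have hidx : (core f).relIndex (S : Subgroup G) = 5 := by
    have h1 := CpAutLy.Frat.card_mul_relIndex hES
    have hS6' : Nat.card ↥(S : Subgroup G) = 5 ^ 6 := hS6
    rw [(extra hf).card, hS6', pow_succ] at h1
    exact Nat.eq_of_mul_eq_mul_left (by norm_num) h1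
  have h1 : (core f).relIndex D' ≤ 5 := by
    rw [← hidx]
    exact relIndex_le_of_le_right hD'S (by rw [hidx]; norm_num)
  set V := core f ⊓ D' with hV
  have h2 : Nat.card ↥V * (core f).relIndex D' = Nat.card ↥D' := by
    rw [← inf_relIndex_right]
    exact CpAutLy.Frat.card_mul_relIndex inf_le_right
  have hV1 : V ≠ ⊥ := by
    intro h0
    rw [h0, Subgroup.card_bot, one_mul, hD'c] at h2
    have := Nat.le_of_dvd Nat.card_pos h25
    omega
  have hVD : V ≤ D' := inf_le_right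
  have hnil : Group.IsNilpotent ↥D' := hD'p.isNilpotent
  have hnorm : (V.subgroupOf D').Normal := by
    refine ⟨fun v hv d => ?_⟩
    rw [mem_subgroupOf] at hv ⊢
    refine ⟨?_, (d * v * d⁻¹).2⟩
    exact conj_mem_core_of_comm (mem_centralizer_singleton_iff.1 (hSf (hD'S d.2))) hv.1
  have hne : V.subgroupOf D' ≠ ⊥ := by
    intro h0
    apply hV1
    rw [Subgroup.subgroupOf_eq_bot, disjoint_iff, inf_eq_left.2 hVD] at h0
    exact h0
  obtain ⟨x', hx', hx1, hxc⟩ := Cfsg.Agent.S0015.exists_mem_center_of_normal (V.subgroupOf D') hne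
  obtain ⟨x, hx, hxe⟩ := x'.2
  have hxe' : g * x * g⁻¹ = (x' : G) := hxe
  refine ⟨x, hx, fun y hy => ?_, ?_, g, ?_⟩
  · have h3 := mem_center_iff.1 hxc ⟨g * y * g⁻¹, ⟨y, hy, rfl⟩⟩
    have h4 : g * y * g⁻¹ * (x' : G) = (x' : G) * (g * y * g⁻¹) := congrArg Subtype.val h3
    rw [← hxe'] at h4
    have h5 : g * (y * x) * g⁻¹ = g * (x * y) * g⁻¹ := by
      calc g * (y * x) * g⁻¹ = g * y * g⁻¹ * (g * x * g⁻¹) := by group
        _ = g * x * g⁻¹ * (g * y * g⁻¹) := h4
        _ = g * (x * y) * g⁻¹ := by group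
    exact mul_left_cancel (mul_right_cancel h5)
  · rintro rfl
    apply hx1
    apply Subtype.ext
    rw [← hxe']
    simp
  · rw [hxe']
    exact (mem_subgroupOf.1 hx').1

include hf in
theorem db_five (hcard : Nat.card G = 51765179004000000) : DB 5 1 G := by
  have : Fact (Nat.Prime 5) := ⟨Nat.prime_five⟩
  refine DB.of_center fun D hD hd => ?_
  have h25 : 5 ^ 2 ∣ Nat.card ↥D := (Nat.prime_five.pow_dvd_iff_le_factorization Nat.card_pos.ne').2 hd
  obtain ⟨x, hx, hxc, hx1, g, hg⟩ := exists_central_core hf hcard hD h25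
  have hg1 : g * x * g⁻¹ ≠ 1 := fun h => hx1 (conj_eq_one_iff.1 h)
  refine ⟨x, hx, hxc, ?_, ?_⟩
  · have h1 := orderOf_mem_core hg hg1 hf
    rwa [CpAutLy.McLThree.orderOf_conj'] at h1
  · have h1 : DB 5 1 ↥(centralizer ({g * x * g⁻¹} : Set G)) := (db_core hf hcard hg hg1).mono (by norm_num)
    exact h1.of_equiv (CpAutLy.McLThree.centEquiv rfl)

include hf in
/-- **the irreducible characters outside the principal 5-block have degree divisible by `5 ^ 5`** -/
theorem nb_five_five (hcard : Nat.card G = 51765179004000000) : NB 5 5 G := by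
  have : Fact (Nat.Prime 5) := ⟨Nat.prime_five⟩
  exact NB.of_DB (db_five hf hcard) (by rw [hcard]; norm_num)

end Cfsg.Agent.H799.PB
end
end

-- part: H799/PB/Ly67
section
prune_inst 0x30000100150200000000000000000041000000000000000000020000000080010004000030000202010000202008800001000009020000000a000200400000000000000000400000000000008000000000000000000000000000000000000000000000000
set_option linter.all false
open scoped Cfsg.Agent.FastGrp

-- part: H799/PB/CycMat
section
/-!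
# The matrices commuting with a cyclic matrix over `F_p` (helper799, for S4826)

`exists_poly` : if the row `i₀` of `1, A, …, A ^ (n - 1)` are independent then every matrix commuting with `A` is a
polynomial in `A`; `pow_eq` : if moreover `A ^ (p ^ m) = A` then `B ^ (p ^ m) = B` for `B` commuting with `A`.
-/

set_option autoImplicit false

namespace Cfsg.Agent.H799.PB.CycMat

open Matrix Finset Polynomial

theorem exists_poly {R : Type*} [CommRing R] {n : ℕ} (i₀ : Fin n) {A B K K' : Matrix (Fin n) (Fin n) R}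
    (hK : ∀ j i, K j i = (A ^ (j : ℕ)) i₀ i) (h1 : K' * K = 1) (hAB : A * B = B * A) :
    ∃ p : R[X], B = aeval A p := by
  classical
  let c : Fin n → R := fun j => ∑ k, B i₀ k * K' k j
  refine ⟨∑ j, C (c j) * X ^ (j : ℕ), ?_⟩
  set P : Matrix (Fin n) (Fin n) R := aeval A (∑ j : Fin n, C (c j) * X ^ (j : ℕ)) with hP
  have hP' : P = ∑ j : Fin n, c j • A ^ (j : ℕ) := by
    rw [hP, map_sum]
    refine sum_congr rfl fun j _ => ?_
    rw [map_mul, aeval_C, map_pow, aeval_X, Algebra.smul_def]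
  -- the rows `i₀` agree
  have hrow : ∀ i, P i₀ i = B i₀ i := by
    intro i
    rw [hP', Matrix.sum_apply]
    have h2 : ∀ j : Fin n, (c j • A ^ (j : ℕ)) i₀ i = ∑ k, B i₀ k * (K' k j * K j i) := by
      intro j
      rw [Matrix.smul_apply, smul_eq_mul, ← hK]
      simp only [c, sum_mul, mul_assoc]
    rw [sum_congr rfl fun j _ => h2 j, sum_comm]
    have h3 : ∀ k, ∑ j, B i₀ k * (K' k j * K j i) = B i₀ k * (1 : Matrix (Fin n) (Fin n) R) k i := by
      intro k
      rw [← mul_sum, ← h1, Matrix.mul_apply]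
    rw [sum_congr rfl fun k _ => h3 k]
    have h4 : (B * (1 : Matrix (Fin n) (Fin n) R)) i₀ i = ∑ k, B i₀ k * (1 : Matrix (Fin n) (Fin n) R) k i := Matrix.mul_apply
    rw [← h4, Matrix.mul_one]
  have hAP : A * P = P * A := by
    have h5 : ∀ q : R[X], aeval A (X * q) = A * aeval A q := fun q => by rw [map_mul, aeval_X]
    have h6 : ∀ q : R[X], aeval A (q * X) = aeval A q * A := fun q => by rw [map_mul, aeval_X]
    rw [hP, ← h5, ← h6, mul_comm]
  have hcB : ∀ j : ℕ, A ^ j * B = B * A ^ j := fun j => ((show Commute A B from hAB).pow_left j).eq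
  have hcP : ∀ j : ℕ, A ^ j * P = P * A ^ j := fun j => ((show Commute A P from hAP).pow_left j).eq
  have hKB : K * B = K * P := by
    ext j i
    have e1 : (K * B) j i = (A ^ (j : ℕ) * B) i₀ i := by
      rw [Matrix.mul_apply, Matrix.mul_apply]
      exact sum_congr rfl fun k _ => by rw [hK]
    have e2 : (K * P) j i = (A ^ (j : ℕ) * P) i₀ i := by
      rw [Matrix.mul_apply, Matrix.mul_apply]
      exact sum_congr rfl fun k _ => by rw [hK]
    rw [e1, e2, hcB, hcP, Matrix.mul_apply, Matrix.mul_apply]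
    exact sum_congr rfl fun k _ => by rw [hrow]
  calc B = K' * K * B := by rw [h1, Matrix.one_mul]
    _ = K' * K * P := by rw [Matrix.mul_assoc, hKB, ← Matrix.mul_assoc]
    _ = P := by rw [h1, Matrix.one_mul]

theorem pow_eq {p : ℕ} [hp : Fact p.Prime] {n m : ℕ} (i₀ : Fin n) {A B K K' : Matrix (Fin n) (Fin n) (ZMod p)}
    (hK : ∀ j i, K j i = (A ^ (j : ℕ)) i₀ i) (h1 : K' * K = 1) (hAB : A * B = B * A) (hA : A ^ p ^ m = A) :
    B ^ p ^ m = B := by
  obtain ⟨f, rfl⟩ := exists_poly i₀ hK h1 hAB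
  have h2 : ∀ m : ℕ, f ^ p ^ m = expand (ZMod p) (p ^ m) f := by
    intro m
    induction m with
    | zero => rw [pow_zero, pow_one, expand_one]
    | succ m ih => rw [pow_succ, pow_mul, ih, ← ZMod.expand_card, expand_expand, mul_comm]
  rw [← map_pow, h2, expand_aeval, hA]

end Cfsg.Agent.H799.PB.CycMat
end

-- part: H799/PB/Ly31
section
/-!
# Elements of order 31 of the Lyons group (helper799, for S4826)

`w` : an element of order 31 of `G₂(5)`; `isPGroup_cent` : its centralizer in `Ly` is a 31-group (31 divides no order of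
a two point stabilizer; in `GL₇(5)` the matrix is cyclic).
-/

set_option autoImplicit false
set_option maxRecDepth 100000

namespace Cfsg.Agent.H799.PB.Ly31

open Cfsg Cfsg.Agent.Ly Cfsg.Agent.Ly.Mat7 Cfsg.Agent.Ly.Upper Cfsg.Agent.Ly.Cover Cfsg.Agent.Lib.PackMat
  Cfsg.Agent.H314.LyOrb.Ord25 Cfsg.Agent.SporRec.LyType

/-- the word -/
def W : List ℕ := [0, 3, 2]

/-- the rows `0` of the powers -/
def KN : ℕ := 0x400000004000100040000000100040004000000010001000000020002000400000001000100030000000100020004000400020000000400020000000100040001000000000000000000000000000000000000000000000001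

/-- the inverse -/
def KI : ℕ := 0x300020000000200020003000000030002000000020003000300010000000400020003000300000003000300020000000100040002000400000000000000000000000400040002000200000001000300030000000000000000000000000001

theorem pow31 : (ev gen W : GL (Fin 7) (ZMod 5)) ^ 31 = 1 := by
  rw [ev_pow, ← ev_nil gen]
  exact word_eq (by decide +kernel)

theorem ne_one : (ev gen W : GL (Fin 7) (ZMod 5)) ≠ 1 := by
  intro h
  have h1 := (evalK_spec W oneN_ok).2
  rw [toM_oneN, Matrix.one_mul, h, Units.val_one] at h1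
  have h2 : isOne (evalK W oneN) = false := by decide +kernel
  rw [isOne_of h1] at h2
  exact absurd h2 (by decide)

theorem ok_K : Ok KN := okN_spec (by decide +kernel)
theorem ok_I : Ok KI := okN_spec (by decide +kernel)

theorem mulN_one : mulN KI KN = oneN := by decide +kernel

theorem toM_mul : toM KI * toM KN = 1 := by rw [← toM_mulN ok_I ok_K, mulN_one, toM_oneN]

theorem digits : ∀ j i : Fin 7, dg 16 KN (7 * j + i) = dg 16 (evalK (List.replicate (j : ℕ) W).flatten oneN) i := by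
  decide +kernel

theorem rows (j i : Fin 7) : toM KN j i = (((ev gen W : GL (Fin 7) (ZMod 5)) : Matrix (Fin 7) (Fin 7) (ZMod 5)) ^ (j : ℕ)) 0 i := by
  have h1 := (evalK_spec (List.replicate (j : ℕ) W).flatten oneN_ok).2
  rw [toM_oneN, Matrix.one_mul, ← ev_pow, Units.val_pow_eq_pow_val] at h1
  rw [← h1]
  unfold toM
  rw [digits, Fin.val_zero, mul_zero, zero_add]

/-- the elements of `GL₇(5)` commuting with the matrix -/
theorem pow124 {g : GL (Fin 7) (ZMod 5)} (hg : g * ev gen W = ev gen W * g) : g ^ 124 = 1 := by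
  have : Fact (Nat.Prime 5) := ⟨Nat.prime_five⟩
  have hA : (ev gen W : GL (Fin 7) (ZMod 5)) ^ 125 = ev gen W := by
    rw [show 125 = 31 * 4 + 1 by norm_num, pow_succ, pow_mul, pow31, one_pow, one_mul]
  have h1 := CycMat.pow_eq (p := 5) (m := 3) (0 : Fin 7) (A := ((ev gen W : GL (Fin 7) (ZMod 5)) : Matrix _ _ _))
    (B := (g : Matrix (Fin 7) (Fin 7) (ZMod 5))) rows toM_mul (by
      rw [← Units.val_mul, ← Units.val_mul, hg]) (by
      rw [← Units.val_pow_eq_pow_val]
      exact congrArg Units.val hA)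
  have h2 : g ^ 125 = g := Units.ext (by rw [Units.val_pow_eq_pow_val]; exact h1)
  have h3 : g ^ 124 * g = 1 * g := by rw [← pow_succ, h2, one_mul]
  exact mul_right_cancel h3

/-- the element of order 31 of `Ly` -/
noncomputable def w : Cfsg.Spor.Ly := Setup.psi (ev Data.hgen W)

theorem coe_pow (n : ℕ) : (ev Data.hgen W : Hhat) ^ n = 1 ↔ (ev gen W : GL (Fin 7) (ZMod 5)) ^ n = 1 := by
  rw [← Data.coe_ev, ← Subgroup.coe_pow]
  exact ⟨fun h => congrArg Subtype.val h, fun h => Subtype.ext h⟩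

theorem order_w : orderOf w = 31 := by
  have : Fact (Nat.Prime 31) := ⟨by norm_num⟩
  rw [w, orderOf_injective Setup.psi Setup.psi_injective]
  refine orderOf_eq_prime ((coe_pow 31).2 pow31) ?_
  intro h
  have h1 := (coe_pow 1).1 (by rw [pow_one]; exact h)
  rw [pow_one] at h1
  exact ne_one h1

/-- the centralizer of `w` is in `G₂(5)` -/
theorem mem_range {g : Cfsg.Spor.Ly} (hg : g * w = w * g) : g ∈ Setup.psi.range := by
  obtain ⟨i, h₁, hh₁, h₂, hh₂, hg'⟩ := Setup.cover g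
  by_cases hi : i = 0
  · rw [hg', hi, Setup.w_zero, mul_one]
    exact mul_mem hh₁ hh₂
  · exfalso
    have hw : w ∈ Setup.psi.range := ⟨_, rfl⟩
    have h1 : h₁⁻¹ * w * h₁ ∈ (Setup.Hs i).map Setup.psi := by
      rw [Setup.map_eq]
      have hm1 : h₁⁻¹ * w * h₁ ∈ Setup.psi.range := mul_mem (mul_mem (inv_mem hh₁) hw) hh₁
      have hm2 : h₂ * w * h₂⁻¹ ∈ Setup.psi.range := mul_mem (mul_mem hh₂ hw) (inv_mem hh₂)
      refine ⟨hm1, h₂ * w * h₂⁻¹, hm2, ?_⟩
      change Setup.w i * (h₂ * w * h₂⁻¹) * (Setup.w i)⁻¹ = h₁⁻¹ * w * h₁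
      have h2 : g * w * g⁻¹ = w := by rw [hg, mul_inv_cancel_right]
      have h3 : Setup.w i * h₂ = h₁⁻¹ * g := by rw [hg']; group
      calc Setup.w i * (h₂ * w * h₂⁻¹) * (Setup.w i)⁻¹ = Setup.w i * h₂ * w * (Setup.w i * h₂)⁻¹ := by group
        _ = h₁⁻¹ * (g * w * g⁻¹) * h₁ := by rw [h3]; group
        _ = h₁⁻¹ * w * h₁ := by rw [h2]
    have h4 : orderOf (h₁⁻¹ * w * h₁) = 31 := by
      have h5 := CpAutLy.McLThree.orderOf_conj' h₁⁻¹ w
      rw [inv_inv] at h5
      rw [h5, order_w]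
    have h5 := ((Setup.Hs i).map Setup.psi).orderOf_dvd_natCard h1
    rw [h4, Setup.card_map, Setup.card_Hs] at h5
    fin_cases i
    · exact hi rfl
    · exact absurd h5 (by decide)
    · exact absurd h5 (by decide)
    · exact absurd h5 (by decide)
    · exact absurd h5 (by decide)

theorem isPGroup_cent : IsPGroup 31 ↥(Subgroup.centralizer ({w} : Set Cfsg.Spor.Ly)) := by
  have hfin : Finite Cfsg.Spor.Ly := Setup.finite_ly
  obtain ⟨M⟩ := TypeM.FactsLy.exists_mt_ly
  let L : LyType Cfsg.Spor.Ly := { t := M.t, K := M.K, hz := M.hz, one := M.one }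
  have h2 : ¬ 2 ∣ Nat.card ↥(Subgroup.centralizer ({w} : Set Cfsg.Spor.Ly)) :=
    H513.NilpTools.odd_cent' order_w fun t ht => by rw [H513.NilpLy.card_inv L ht]; norm_num
  intro g
  refine ⟨1, ?_⟩
  have hg := Subgroup.mem_centralizer_singleton_iff.1 g.2
  obtain ⟨k, hk⟩ := mem_range hg
  have hkw : k * ev Data.hgen W = ev Data.hgen W * k := by
    apply Setup.psi_injective
    rw [map_mul, map_mul, hk]
    exact hg
  have hkw' : (k : GL (Fin 7) (ZMod 5)) * ev gen W = ev gen W * k := by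
    rw [← Data.coe_ev, ← Subgroup.coe_mul, ← Subgroup.coe_mul, hkw]
  have h3 : k ^ 124 = 1 := Subtype.ext (by rw [Subgroup.coe_pow]; exact pow124 hkw')
  have h4 : g ^ 124 = 1 := Subtype.ext (by
    rw [Subgroup.coe_pow, ← hk, ← map_pow, h3, map_one]
    rfl)
  have h5 : orderOf g ∣ 124 := orderOf_dvd_of_pow_eq_one h4
  have h6 : (orderOf g).Coprime 4 := by
    rw [show 4 = 2 ^ 2 by norm_num]
    apply Nat.Coprime.pow_right
    rw [Nat.coprime_comm, Nat.prime_two.coprime_iff_not_dvd]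
    exact fun h => h2 (h.trans (orderOf_dvd_natCard g))
  have h7 : orderOf g ∣ 31 := h6.dvd_of_dvd_mul_left (by rw [show 4 * 31 = 124 by norm_num]; exact h5)
  rw [pow_one]
  exact orderOf_dvd_iff_pow_eq_one.1 h7

theorem nb : Cfsg.Agent.H709.PB.NB 31 1 Cfsg.Spor.Ly := by
  have hfin : Finite Cfsg.Spor.Ly := Setup.finite_ly
  have : Fact (Nat.Prime 31) := ⟨by norm_num⟩
  exact Cfsg.Agent.H709.PB.NB.of_self isPGroup_cent ⟨1, by rw [order_w, pow_one]⟩

end Cfsg.Agent.H799.PB.Ly31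
end

-- part: H799/PB/Ly67
section
/-!
# Elements of order 67 of the Lyons group (helper799, for S4826)

`card_normalizer` : `|N(⟨x⟩)| = 67 * 22` for `x` of order 67; `isPGroup_cent` : `C(x)` is a 67-group.
-/

set_option autoImplicit false
set_option maxRecDepth 100000

namespace Cfsg.Agent.H799.PB.Ly67

open Subgroup Cfsg Cfsg.Agent Cfsg.Agent.SporRec Cfsg.Agent.SporRec.LyType Cfsg.Agent.SporRec.LyFiveCore
open Cfsg.Agent.H513.NilpTools Cfsg.Agent.H513.NilpLy Cfsg.Agent.CpAutLy.Types Cfsg.Agent.CpAutLy.Base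

theorem arith {r n : ℕ} (hr : r.Prime) (h67 : r ≠ 67) (hn : n ≠ 0) (h : r ^ n ∣ 51765179004000000) :
    ¬ 67 ∣ r ^ n - 1 := by
  have h1 : r ∣ 51765179004000000 := (dvd_pow_self r hn).trans h
  rw [show 51765179004000000 = 2 ^ 8 * 3 ^ 7 * 5 ^ 6 * 7 * 11 * 31 * 37 * 67 by norm_num,
    hr.dvd_mul, hr.dvd_mul, hr.dvd_mul, hr.dvd_mul, hr.dvd_mul, hr.dvd_mul, hr.dvd_mul] at h1
  have key : ∀ e : ℕ, ¬ r ^ (e + 1) ∣ 51765179004000000 → n ≤ e := fun e he => by
    by_contra hcon
    exact he ((pow_dvd_pow r (by omega)).trans h)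
  rcases h1 with ((((((h | h) | h) | h) | h) | h) | h) | h
  · have := (Nat.prime_dvd_prime_iff_eq hr Nat.prime_two).1 (hr.dvd_of_dvd_pow h)
    subst this
    have h2 := key 8 (by norm_num)
    interval_cases n <;> first | exact absurd rfl hn | norm_num
  · have := (Nat.prime_dvd_prime_iff_eq hr Nat.prime_three).1 (hr.dvd_of_dvd_pow h)
    subst this
    have h2 := key 7 (by norm_num)
    interval_cases n <;> first | exact absurd rfl hn | norm_num
  · have := (Nat.prime_dvd_prime_iff_eq hr Nat.prime_five).1 (hr.dvd_of_dvd_pow h)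
    subst this
    have h2 := key 6 (by norm_num)
    interval_cases n <;> first | exact absurd rfl hn | norm_num
  · have := (Nat.prime_dvd_prime_iff_eq hr (by norm_num : Nat.Prime 7)).1 h
    subst this
    have h2 := key 1 (by norm_num)
    interval_cases n <;> first | exact absurd rfl hn | norm_num
  · have := (Nat.prime_dvd_prime_iff_eq hr (by norm_num : Nat.Prime 11)).1 h
    subst this
    have h2 := key 1 (by norm_num)
    interval_cases n <;> first | exact absurd rfl hn | norm_num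
  · have := (Nat.prime_dvd_prime_iff_eq hr (by norm_num : Nat.Prime 31)).1 h
    subst this
    have h2 := key 1 (by norm_num)
    interval_cases n <;> first | exact absurd rfl hn | norm_num
  · have := (Nat.prime_dvd_prime_iff_eq hr (by norm_num : Nat.Prime 37)).1 h
    subst this
    have h2 := key 1 (by norm_num)
    interval_cases n <;> first | exact absurd rfl hn | norm_num
  · exact absurd ((Nat.prime_dvd_prime_iff_eq hr (by norm_num : Nat.Prime 67)).1 h) h67

/-- the factorization of the order -/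
def fac : List (ℕ × ℕ) := [(2, 8), (3, 7), (5, 6), (7, 1), (11, 1), (31, 1), (37, 1), (67, 1)]

theorem arith2 {m : ℕ} (hm : m ∣ 51765179004000000) (h67 : 67 ∣ m) (h4 : ¬ 4 ∣ m) (h5 : ¬ 5 ∣ m) (h7 : ¬ 7 ∣ m)
    (h31 : ¬ 31 ∣ m) (h1 : 51765179004000000 / m % 67 = 1) : m = 1474 := by
  have h := H417.Divs.all_divs fac (by unfold fac; intro x hx; fin_cases hx <;> norm_num)
    (show H417.Divs.val fac = 51765179004000000 by decide +kernel)
    (f := fun m => m % 67 != 0 || m % 4 == 0 || m % 5 == 0 || m % 7 == 0 || m % 31 == 0 ||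
      51765179004000000 / m % 67 != 1 || m == 1474)
    (H417.Divs.LowDv.all_of [(2, 1), (5, 0), (7, 0), (31, 0)] (fun d h => by
      have h : (Nat.beq (d % 4) 0 || (Nat.beq (d % 5) 0 || (Nat.beq (d % 7) 0 || (Nat.beq (d % 31) 0 || false)))) = true := h
      simp only [Bool.or_eq_true, Nat.beq_eq] at h
      rcases h with h | h | h | h | ⟨⟨⟩⟩ <;> simp only [h, beq_self_eq_true, Bool.or_true, Bool.true_or])
    (by decide +kernel)) hm
  simp only [Bool.or_eq_true, bne_iff_ne, beq_iff_eq] at h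
  rcases h with (((((h | h) | h) | h) | h) | h) | h
  · exact absurd (Nat.mod_eq_zero_of_dvd h67) h
  · exact absurd (Nat.dvd_of_mod_eq_zero h) h4
  · exact absurd (Nat.dvd_of_mod_eq_zero h) h5
  · exact absurd (Nat.dvd_of_mod_eq_zero h) h7
  · exact absurd (Nat.dvd_of_mod_eq_zero h) h31
  · exact absurd h1 h
  · exact h

theorem card_cent_three {x₀ : Cfsg.Spor.Ly} (h₀ : Three x₀) :
    Nat.card ↥(centralizer ({x₀} : Set Cfsg.Spor.Ly)) = 2694384000 := by
  have hfin : Finite Cfsg.Spor.Ly := Ly.Setup.finite_ly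
  obtain ⟨-, -, hc, -⟩ := TypeM.FactsMcL.facts h₀.quot
  have h1 := card_eq_card_quotient_mul_card_subgroup (center ↥(centralizer ({x₀} : Set Cfsg.Spor.Ly)))
  rw [h1, h₀.zcard, hc]

/-- an element normalizing `⟨x⟩` of order prime to `p - 1` commutes with `x` -/
theorem comm_of_coprime {G : Type*} [Group G] [Finite G] {p : ℕ} (hp : p.Prime) {x z : G} (hx : orderOf x = p)
    (hz : z ∈ normalizer (zpowers x : Set G)) (hc : (orderOf z).Coprime (p - 1)) : z * x = x * z := by
  set φ := normalizerMonoidHom (zpowers x) ⟨z, hz⟩ with hφ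
  have h1 : orderOf φ ∣ orderOf z := by
    have h2 : orderOf φ ∣ orderOf (⟨z, hz⟩ : ↥(normalizer (zpowers x : Set G))) := orderOf_map_dvd _ _
    rwa [Subgroup.orderOf_mk] at h2
  have h2 : orderOf φ ∣ p - 1 := by
    have h3 := orderOf_dvd_natCard φ
    rwa [IsCyclic.card_mulAut, Nat.card_zpowers, hx, Nat.totient_prime hp] at h3
  have h3 : φ = 1 := by
    have h4 := Nat.dvd_gcd h1 h2
    rw [hc] at h4
    exact orderOf_eq_one_iff.1 (Nat.dvd_one.1 h4)
  have h4 : (⟨z, hz⟩ : ↥(normalizer (zpowers x : Set G))) ∈ (normalizerMonoidHom (zpowers x)).ker := h3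
  rw [normalizerMonoidHom_ker, mem_subgroupOf, mem_centralizer_iff] at h4
  exact (h4 x (mem_zpowers x)).symm

/-- an involution, an element of order three or five commutes with no element of order 67 -/
theorem not_dvd_of {x : Cfsg.Spor.Ly} (hx : orderOf x = 67) {y : Cfsg.Spor.Ly} (hxy : x * y = y * x) :
    67 ∣ Nat.card ↥(centralizer ({y} : Set Cfsg.Spor.Ly)) := by
  have h1 := (centralizer ({y} : Set Cfsg.Spor.Ly)).orderOf_dvd_natCard (mem_centralizer_singleton_iff.2 hxy)
  rwa [hx] at h1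

variable {x : Cfsg.Spor.Ly} (hx : orderOf x = 67)
include hx

theorem n2 : ¬ 2 ∣ Nat.card ↥(centralizer ({x} : Set Cfsg.Spor.Ly)) := by
  have hfin : Finite Cfsg.Spor.Ly := Ly.Setup.finite_ly
  obtain ⟨L, f, hf⟩ := exists_lyType
  exact odd_cent' hx fun t ht => by rw [card_inv L ht]; norm_num

theorem n31 : ¬ 31 ∣ Nat.card ↥(centralizer ({x} : Set Cfsg.Spor.Ly)) := by
  have hfin : Finite Cfsg.Spor.Ly := Ly.Setup.finite_ly
  intro h
  have hsq : ¬ 31 * 31 ∣ Nat.card Cfsg.Spor.Ly := by rw [Ly.Setup.card_ly]; norm_num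
  obtain ⟨g, hg⟩ := exists_conj_comm (by norm_num) hsq (t := x) Ly31.order_w h
  obtain ⟨k, hk⟩ := Ly31.isPGroup_cent ⟨g * x * g⁻¹, mem_centralizer_singleton_iff.2 hg⟩
  have h1 : (g * x * g⁻¹) ^ 31 ^ k = 1 := congrArg Subtype.val hk
  have h2 := orderOf_dvd_of_pow_eq_one h1
  rw [CpAutLy.McLThree.orderOf_conj', hx] at h2
  have h3 := (Nat.prime_dvd_prime_iff_eq (by norm_num) (by norm_num)).1 ((by norm_num : Nat.Prime 67).dvd_of_dvd_pow h2)
  omega

theorem n7 : ¬ 7 ∣ Nat.card ↥(centralizer ({x} : Set Cfsg.Spor.Ly)) := by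
  have hfin : Finite Cfsg.Spor.Ly := Ly.Setup.finite_ly
  intro h
  have : Fact (Nat.Prime 7) := ⟨by norm_num⟩
  obtain ⟨y, hy⟩ := exists_prime_orderOf_dvd_card' 7 h
  have hy' : orderOf (y : Cfsg.Spor.Ly) = 7 := by rw [Subgroup.orderOf_coe, hy]
  have h1 := not_dvd_of hx (y := (y : Cfsg.Spor.Ly)) (mem_centralizer_singleton_iff.1 y.2).symm
  have h2 : Nat.card ↥(centralizer ({(y : Cfsg.Spor.Ly)} : Set Cfsg.Spor.Ly)) ∣ 1008 := by
    rw [← H314.LyOrb.card_normalizer_seven hy']
    refine card_dvd_of_le ?_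
    have h3 : centralizer ({(y : Cfsg.Spor.Ly)} : Set Cfsg.Spor.Ly) =
        centralizer ((zpowers (y : Cfsg.Spor.Ly) : Subgroup _) : Set Cfsg.Spor.Ly) := by
      rw [zpowers_eq_closure, centralizer_closure]
    rw [h3]
    exact centralizer_le_normalizer _
  have h3 := h1.trans h2
  revert h3
  decide

/-- the normalizer of an element of prime order commuting with `x`, with solvable centralizer -/
theorem normalizer_le {y : Cfsg.Spor.Ly} (hxy : x * y = y * x)
    (hs : Group.IsSolvable ↥(centralizer ({y} : Set Cfsg.Spor.Ly))) :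
    normalizer (zpowers y : Set Cfsg.Spor.Ly) ≤ normalizer (zpowers x : Set Cfsg.Spor.Ly) := by
  have hfin : Finite Cfsg.Spor.Ly := Ly.Setup.finite_ly
  have : Fact (Nat.Prime 67) := ⟨by norm_num⟩
  exact H568.OddPair.normalizer_le (by rw [Ly.Setup.card_ly]; norm_num)
    (fun r k hr hr67 hk hd => arith hr hr67 hk (by rwa [Ly.Setup.card_ly] at hd)) hx hxy hs

theorem n5 : ¬ 5 ∣ Nat.card ↥(centralizer ({x} : Set Cfsg.Spor.Ly)) := by
  have hfin : Finite Cfsg.Spor.Ly := Ly.Setup.finite_ly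
  have : Fact (Nat.Prime 5) := ⟨Nat.prime_five⟩
  have h67F : Fact (Nat.Prime 67) := ⟨by norm_num⟩
  intro h
  obtain ⟨L, f, hf⟩ := exists_lyType
  have hcf : ∀ g : Cfsg.Spor.Ly, ¬ 67 ∣ Nat.card ↥(centralizer ({g * f * g⁻¹} : Set Cfsg.Spor.Ly)) := by
    intro g
    rw [← CpAutLy.McLThree.card_cent_conj (x := f) (g := g) rfl, (extra hf).card_centralizer]
    norm_num
  obtain ⟨u', hu'⟩ := exists_prime_orderOf_dvd_card' 5 h
  obtain ⟨u, hux, hu⟩ : ∃ u : Cfsg.Spor.Ly, u * x = x * u ∧ orderOf u = 5 :=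
    ⟨u', mem_centralizer_singleton_iff.1 u'.2, by rw [Subgroup.orderOf_coe, hu']⟩
  have h1 := not_dvd_of hx hux.symm
  have hno : ∀ g : Cfsg.Spor.Ly, g * u * g⁻¹ ≠ f := by
    intro g hg
    apply hcf g⁻¹
    have h2 : g⁻¹ * f * g⁻¹⁻¹ = u := by rw [← hg]; group
    rw [h2]
    exact h1
  have hle := normalizer_le hx hux.symm (solvable_of_ne hf hu hno)
  -- a conjugate of `f` commuting with `u`
  obtain ⟨S, -, hSf, -⟩ := exists_sylow hf Ly.Setup.card_ly
  obtain ⟨Q, hQ⟩ := (IsPGroup.of_card (p := 5) (n := 1) (G := ↥(zpowers u))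
    (by rw [Nat.card_zpowers, hu, pow_one])).exists_le_sylow
  obtain ⟨g, hg⟩ := MulAction.exists_smul_eq Cfsg.Spor.Ly S Q
  have hcom : u * (g * f * g⁻¹) = g * f * g⁻¹ * u := by
    have h2 : u ∈ (Q : Subgroup Cfsg.Spor.Ly) := hQ (mem_zpowers u)
    rw [← hg] at h2
    obtain ⟨s, hs, hsu⟩ := h2
    have hsu' : g * s * g⁻¹ = u := hsu
    rw [← hsu']
    exact CpAutLy.McLThree.conj_comm g (mem_centralizer_singleton_iff.1 (hSf hs))
  have hN : g * f * g⁻¹ ∈ normalizer (zpowers x : Set Cfsg.Spor.Ly) := by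
    apply hle
    have h3 : g * f * g⁻¹ ∈ centralizer ((zpowers u : Subgroup _) : Set Cfsg.Spor.Ly) := by
      rw [mem_centralizer_iff]
      rintro _ ⟨n, rfl⟩
      exact ((show Commute u (g * f * g⁻¹) from hcom).zpow_left n).eq
    exact centralizer_le_normalizer _ h3
  -- an element of order five normalizing `⟨x⟩` centralizes `x`
  have hcx : g * f * g⁻¹ * x = x * (g * f * g⁻¹) := by
    refine comm_of_coprime (by norm_num) hx hN ?_
    rw [CpAutLy.McLThree.orderOf_conj', orderOf_f hf]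
    norm_num
  exact hcf g (not_dvd_of hx hcx.symm)

theorem card_normalizer : Nat.card ↥(normalizer (zpowers x : Set Cfsg.Spor.Ly)) = 1474 := by
  have hfin : Finite Cfsg.Spor.Ly := Ly.Setup.finite_ly
  have h67F : Fact (Nat.Prime 67) := ⟨by norm_num⟩
  set m := Nat.card ↥(normalizer (zpowers x : Set Cfsg.Spor.Ly)) with hm
  have hmG : m ∣ 51765179004000000 := by
    rw [← Ly.Setup.card_ly]
    exact card_subgroup_dvd_card _
  have hmC : m ∣ Nat.card ↥(centralizer ({x} : Set Cfsg.Spor.Ly)) * 66 := H568.OddPair.card_normalizer hx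
  have hidx := H568.OddPair.index_mod (l := 67) (by rw [Ly.Setup.card_ly]; norm_num) hx
  have h1 : m * (normalizer (zpowers x : Set Cfsg.Spor.Ly)).index = 51765179004000000 := by
    rw [← Ly.Setup.card_ly]
    exact card_mul_index _
  have hdiv : 51765179004000000 / m = (normalizer (zpowers x : Set Cfsg.Spor.Ly)).index := by
    rw [← h1]
    exact Nat.mul_div_cancel_left _ Nat.card_pos
  have key : ∀ r : ℕ, r.Prime → ¬ r ∣ Nat.card ↥(centralizer ({x} : Set Cfsg.Spor.Ly)) → ¬ r ∣ 66 → ¬ r ∣ m := by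
    intro r hr h2 h3 h4
    rcases hr.dvd_mul.1 (h4.trans hmC) with h5 | h5
    · exact h2 h5
    · exact h3 h5
  apply arith2 hmG
  · have h2 : zpowers x ≤ normalizer (zpowers x : Set Cfsg.Spor.Ly) := le_normalizer
    have h3 := card_dvd_of_le h2
    rwa [Nat.card_zpowers, hx] at h3
  · intro h4
    have h5 : 4 ∣ Nat.card ↥(centralizer ({x} : Set Cfsg.Spor.Ly)) * 66 := h4.trans hmC
    have h6 : 2 * 2 ∣ Nat.card ↥(centralizer ({x} : Set Cfsg.Spor.Ly)) * 33 * 2 := by
      rw [mul_assoc]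
      exact h5
    have h7 : 2 ∣ Nat.card ↥(centralizer ({x} : Set Cfsg.Spor.Ly)) * 33 := Nat.dvd_of_mul_dvd_mul_right (by norm_num) h6
    rcases Nat.prime_two.dvd_mul.1 h7 with h8 | h8
    · exact n2 hx h8
    · revert h8
      decide
  · exact key 5 (by norm_num) (n5 hx) (by norm_num)
  · exact key 7 (by norm_num) (n7 hx) (by norm_num)
  · exact key 31 (by norm_num) (n31 hx) (by norm_num)
  · rw [hdiv]
    exact hidx

omit hx in
theorem cent_le_normalizer {G : Type*} [Group G] (x : G) :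
    centralizer ({x} : Set G) ≤ normalizer (zpowers x : Set G) := by
  have h3 : centralizer ({x} : Set G) = centralizer ((zpowers x : Subgroup _) : Set G) := by
    rw [zpowers_eq_closure, centralizer_closure]
  rw [h3]
  exact centralizer_le_normalizer _

theorem n11 : ¬ 11 ∣ Nat.card ↥(centralizer ({x} : Set Cfsg.Spor.Ly)) := by
  have hfin : Finite Cfsg.Spor.Ly := Ly.Setup.finite_ly
  have h11F : Fact (Nat.Prime 11) := ⟨by norm_num⟩
  have h2F : Fact (Nat.Prime 2) := ⟨by norm_num⟩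
  intro h
  obtain ⟨L, f, hf⟩ := exists_lyType
  obtain ⟨x₀, h₀⟩ := exists_three
  obtain ⟨v', hv'⟩ := exists_prime_orderOf_dvd_card' 11 h
  obtain ⟨v, hvx, hv⟩ : ∃ v : Cfsg.Spor.Ly, v * x = x * v ∧ orderOf v = 11 :=
    ⟨v', mem_centralizer_singleton_iff.1 v'.2, by rw [Subgroup.orderOf_coe, hv']⟩
  -- `C(v)` is solvable
  have hs : Group.IsSolvable ↥(centralizer ({v} : Set Cfsg.Spor.Ly)) := by
    apply solvable_of_not_four
    intro h4
    obtain ⟨T, hT⟩ := Sylow.exists_subgroup_card_pow_prime 2 (G := ↥(centralizer ({v} : Set Cfsg.Spor.Ly))) (n := 2)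
      (by rw [show 2 ^ 2 = 4 by norm_num]; exact h4)
    set T' := T.map (centralizer ({v} : Set Cfsg.Spor.Ly)).subtype with hT'
    have hcard : Nat.card ↥T' = 2 ^ 2 := by
      rw [hT', card_map_of_injective (subtype_injective _), hT]
    obtain ⟨t', ht'T, ht', htc⟩ := exists_central (IsPGroup.of_card hcard) (by
      intro h
      rw [h, Subgroup.card_bot] at hcard
      omega)
    have hTv : ∀ s ∈ T', s * v = v * s := by
      rintro _ ⟨s, -, rfl⟩
      exact mem_centralizer_singleton_iff.1 s.2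
    have hle : T' ≤ centralizer ({v} : Set Cfsg.Spor.Ly) ⊓ centralizer ({t'} : Set Cfsg.Spor.Ly) := fun s hs =>
      ⟨mem_centralizer_singleton_iff.2 (hTv s hs), mem_centralizer_singleton_iff.2 (htc s hs)⟩
    have h9 : 2 ^ 2 ∣ nn v t' := by
      rw [← hcard]
      exact card_dvd_of_le hle
    rcases nn_table L hf (by norm_num) (by norm_num) hv ht' (hTv t' ht'T) with ⟨h, -⟩ | ⟨h, -⟩ | ⟨h, -⟩ | ⟨-, h⟩
    · omega
    · omega
    · omega
    · have := h9.trans h
      revert this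
      decide
  have hle := normalizer_le hx hvx.symm hs
  -- an element of order three commuting with `v`
  obtain ⟨g, hg⟩ := exists_conj_comm (r := 11) (by norm_num) (by rw [Ly.Setup.card_ly]; norm_num) (t := x₀) hv
    (by rw [card_cent_three h₀]; norm_num)
  have h3 : g * x₀ * g⁻¹ ∈ normalizer (zpowers x : Set Cfsg.Spor.Ly) :=
    hle (cent_le_normalizer v (mem_centralizer_singleton_iff.2 hg))
  have h4 := (normalizer (zpowers x : Set Cfsg.Spor.Ly)).orderOf_dvd_natCard h3
  rw [CpAutLy.McLThree.orderOf_conj', h₀.ord, card_normalizer hx] at h4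
  revert h4
  decide

theorem isPGroup_cent : IsPGroup 67 ↥(centralizer ({x} : Set Cfsg.Spor.Ly)) := by
  have hfin : Finite Cfsg.Spor.Ly := Ly.Setup.finite_ly
  refine H394.PBTools.isPGroup_of_primes _ fun q hq hq67 hd => ?_
  have h1 : q ∣ 1474 := by
    rw [← card_normalizer hx]
    exact hd.trans (card_dvd_of_le (cent_le_normalizer x))
  rw [show 1474 = 2 * 11 * 67 by norm_num, hq.dvd_mul, hq.dvd_mul] at h1
  rcases h1 with (h1 | h1) | h1
  · rw [(Nat.prime_dvd_prime_iff_eq hq (by norm_num)).1 h1] at hd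
    exact n2 hx hd
  · rw [(Nat.prime_dvd_prime_iff_eq hq (by norm_num)).1 h1] at hd
    exact n11 hx hd
  · exact hq67 ((Nat.prime_dvd_prime_iff_eq hq (by norm_num)).1 h1)

omit hx in
theorem nb : Cfsg.Agent.H709.PB.NB 67 1 Cfsg.Spor.Ly := by
  have hfin : Finite Cfsg.Spor.Ly := Ly.Setup.finite_ly
  have : Fact (Nat.Prime 67) := ⟨by norm_num⟩
  obtain ⟨x, hx⟩ := exists_prime_orderOf_dvd_card' (G := Cfsg.Spor.Ly) 67 (by rw [Ly.Setup.card_ly]; norm_num)
  exact Cfsg.Agent.H709.PB.NB.of_self (isPGroup_cent hx) ⟨1, by rw [hx, pow_one]⟩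

end Cfsg.Agent.H799.PB.Ly67
end

private theorem dce_9a81a5c660d1 : _root_.True := by
  try have : _root_.True := by simp only [_root_.Cfsg.Agent.H799.PB.Ly31.w.eq_1]
  exact _root_.True.intro
end

-- part: H799/PB/Ly3
section
prune_inst 0x3420010025020000000000100000006130000430004000010042050200018261008420403a20060213008221000b804001000019001800002000820040000000042232c69148a00001000040f805180c00000000000000000000000000000000000000000
set_option linter.all false
open scoped Cfsg.Agent.FastGrp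

/-!
# The centralizer of a Sylow 3-subgroup of the Lyons group is a 3-group (helper799, for S4826)
-/

set_option autoImplicit false
set_option maxRecDepth 100000

namespace Cfsg.Agent.H799.PB.Ly3

open Subgroup Cfsg Cfsg.Agent Cfsg.Agent.SporRec Cfsg.Agent.SporRec.LyType Cfsg.Agent.SporRec.LyFiveCore
open Cfsg.Agent.SporRec.LyFiveSix Cfsg.Agent.SporRec.LyFiveBuild Cfsg.Agent.SporRec.LyFiveInv
open Cfsg.Agent.H513.NilpTools Cfsg.Agent.H513.NilpLy Cfsg.Agent.CpAutLy.Types Cfsg.Agent.CpAutLy.Base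
open Cfsg.Agent.TypeM.Two Cfsg.Agent.TypeM.McLFromLy

universe u

/-- a `p'`-subgroup of a group of characteristic `p` acts faithfully on `O_p` -/
theorem card_dvd_of_centric {H : Type u} [Group H] [Finite H] {p : ℕ} [Fact p.Prime]
    (hC : centralizer ((pCore p H : Subgroup H) : Set H) ≤ pCore p H) (P : Subgroup H)
    (hP : (Nat.card ↥P).Coprime p) : Nat.card ↥P ∣ Nat.card (MulAut ↥(pCore p H)) := by
  have hn := Cfsg.Agent.Lib.Cores.pCore_normal (G := H) p
  let φ : ↥P →* MulAut ↥(pCore p H) := (MulAut.conjNormal (H := pCore p H)).comp P.subtype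
  refine Subgroup.card_dvd_of_injective φ ?_
  rw [injective_iff_map_eq_one]
  intro g hg
  have h1 : (g : H) ∈ centralizer ((pCore p H : Subgroup H) : Set H) := by
    rw [mem_centralizer_iff]
    intro r hr
    have h2 := congrArg (fun α : MulAut ↥(pCore p H) => ((α ⟨r, hr⟩ : ↥(pCore p H)) : H)) hg
    have h3 : (g : H) * r * (g : H)⁻¹ = r := by
      have h4 : ((φ g ⟨r, hr⟩ : ↥(pCore p H)) : H) = (g : H) * r * (g : H)⁻¹ := MulAut.conjNormal_apply _ _
      rw [← h4]
      exact h2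
    calc r * (g : H) = (g : H) * r * (g : H)⁻¹ * g := by rw [h3]
      _ = g * r := by group
  have h2 := hC h1
  have h3 : orderOf (g : H) ∣ Nat.card ↥P := P.orderOf_dvd_natCard g.2
  obtain ⟨k, hk⟩ := Cfsg.Agent.Lib.Cores.pCore_isPGroup (G := H) p ⟨(g : H), h2⟩
  have h4 : (g : H) ^ p ^ k = 1 := congrArg Subtype.val hk
  have h5 : orderOf (g : H) = 1 := by
    have h6 := Nat.dvd_gcd h3 (orderOf_dvd_of_pow_eq_one h4)
    rw [Nat.Coprime.pow_right k hP] at h6
    exact Nat.dvd_one.1 h6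
  exact Subtype.ext (orderOf_eq_one_iff.1 h5)

/-- `3 ^ 7` does not divide the order of the automorphism group of a group of order dividing `5 ^ 6` -/
theorem not_dvd_aut {R : Type u} [Group R] [Finite R] (hR : Nat.card R ∣ 5 ^ 6) : ¬ 3 ^ 7 ∣ Nat.card (MulAut R) := by
  intro h
  have : Fact (Nat.Prime 5) := ⟨Nat.prime_five⟩
  obtain ⟨n, hn, hn'⟩ := (Nat.dvd_prime_pow Nat.prime_five).1 hR
  have h1 : (frattini R).index ∣ 5 ^ n := by rw [← hn']; exact (frattini R).index_dvd_card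
  obtain ⟨r, hr, hr'⟩ := (Nat.dvd_prime_pow Nat.prime_five).1 h1
  have h2 := h.trans (H541.AutFrattini.card_aut_dvd hn' hr')
  have h3 : (3 ^ 7 : ℕ).Coprime (5 ^ (r * (n - r))) := Nat.Coprime.pow _ _ (by norm_num)
  have h4 := h3.dvd_of_dvd_mul_left h2
  have h5 : r ≤ 6 := hr.trans hn
  interval_cases r <;> revert h4 <;> decide

theorem cent_eq {G : Type u} [Group G] [Finite G] {L : LyType G} {f : G} (hf : Five L f) {x : G}
    (hxF : x ∈ zpowers f) (hx1 : x ≠ 1) : centralizer ({x} : Set G) = centralizer ({f} : Set G) := by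
  have h1 : zpowers x = zpowers f := by
    apply eq_of_le_of_card_ge (zpowers_le.2 hxF)
    rw [(fin hf).card_F, Nat.card_zpowers, orderOf_mem_core (zpowers_le_core hf hxF) hx1 hf]
  ext y
  rw [mem_centralizer_singleton_iff, mem_centralizer_singleton_iff]
  have h4 : f ∈ zpowers x := by rw [h1]; exact mem_zpowers f
  obtain ⟨n, hn⟩ := hxF
  obtain ⟨m, hm⟩ := h4
  constructor
  · intro h
    have := ((show Commute y x from h).zpow_right m).eq
    have e : x ^ m = f := hm
    rwa [e] at this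
  · intro h
    have := ((show Commute y f from h).zpow_right n).eq
    have e : f ^ n = x := hn
    rwa [e] at this

/-- the centralizer of an element of `E` -/
theorem not_dvd_core {G : Type u} [Group G] [Finite G] {L : LyType G} {f : G} (hf : Five L f)
    (hcard : Nat.card G = 51765179004000000) {u : G} (hu : u ∈ core f) (hu1 : u ≠ 1) :
    ¬ 3 ^ 7 ∣ Nat.card ↥(centralizer ({u} : Set G)) := by
  have h5F : Fact (Nat.Prime 5) := ⟨Nat.prime_five⟩
  have h3F : Fact (Nat.Prime 3) := ⟨Nat.prime_three⟩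
  intro h
  have hcf : ¬ 3 ^ 7 ∣ Nat.card ↥(centralizer ({f} : Set G)) := by
    rw [(extra hf).card_centralizer]
    norm_num
  by_cases hno : ∃ g : G, g * u * g⁻¹ = f
  · obtain ⟨g, hg⟩ := hno
    apply hcf
    rwa [← CpAutLy.McLThree.card_cent_conj hg]
  push Not at hno
  by_cases huF : u ∈ zpowers f
  · rw [cent_eq hf huF hu1] at h
    exact hcf h
  have hC := centric hf hcard hu huF hno
  obtain ⟨P, hP⟩ := Sylow.exists_subgroup_card_pow_prime 3 (G := ↥(centralizer ({u} : Set G))) (n := 7) h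
  have h1 := card_dvd_of_centric hC P (by rw [hP]; norm_num)
  rw [hP] at h1
  refine not_dvd_aut ?_ h1
  -- the order of the 5-core
  have h2 : IsPGroup 5 ↥(pCore 5 ↥(centralizer ({u} : Set G))) := Cfsg.Agent.Lib.Cores.pCore_isPGroup 5
  obtain ⟨n, hn⟩ := IsPGroup.iff_card.1 h2
  have h3 : Nat.card ↥(pCore 5 ↥(centralizer ({u} : Set G))) ∣ 51765179004000000 := by
    rw [← hcard]
    exact (card_subgroup_dvd_card _).trans (card_subgroup_dvd_card _)
  rw [hn] at h3 ⊢
  have h4 : n ≤ 6 := by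
    by_contra hcon
    have h6 : 5 ^ 7 ∣ 51765179004000000 := (pow_dvd_pow 5 (by omega)).trans h3
    revert h6
    norm_num
  exact pow_dvd_pow 5 h4

/-- an element of order three commuting with `f` with `|C_E(x)| = 5 ^ 3`, conjugate to `x₀` -/
theorem exists_three_core {x₀ : Cfsg.Spor.Ly} (h₀ : CpAutLy.Base.Three x₀) :
    ∃ (L : LyType Cfsg.Spor.Ly) (f : Cfsg.Spor.Ly) (_ : Five L f) (x g : Cfsg.Spor.Ly), g * x * g⁻¹ = x₀ ∧
      Nat.card ↥(core f ⊓ centralizer ({x} : Set Cfsg.Spor.Ly)) = 5 ^ 3 := by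
  have hfin : Finite Cfsg.Spor.Ly := Ly.Setup.finite_ly
  obtain ⟨M⟩ := TypeM.FactsLy.exists_mt_ly
  let L : LyType Cfsg.Spor.Ly := { t := M.t, K := M.K, hz := M.hz, one := M.one }
  obtain ⟨f, hf⟩ := LyFiveFinal.exists_five L
  obtain ⟨x, hx, hd⟩ := LyA1.exists_three hf
  obtain ⟨e, he, hef, hex, -⟩ := LyA1.exists_core_elem hx hf hd
  have hxf : x * f = f * x := hx.comm_of_disjoint hf hd
  have hx1 : x ≠ 1 := by
    intro h
    have h1 := hx.cyc
    have h2 : (⟨x, L.mem_iff.2 hx.comm⟩ : ↥(centralizer ({L.t} : Set Cfsg.Spor.Ly))) = 1 := Subtype.ext h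
    rw [h2, map_one] at h1
    have h3 : (1 : Equiv.Perm (Fin 11)).cycleType = {3} := h1
    rw [Equiv.Perm.cycleType_one] at h3
    exact absurd h3.symm (Multiset.singleton_ne_zero 3)
  have h3F : Fact (Nat.Prime 3) := ⟨Nat.prime_three⟩
  have hx3 : orderOf x = 3 := orderOf_eq_prime hx.pow hx1
  obtain ⟨s, hs, hsx, hsn⟩ := CpAutLy.Row.exists_base_nn h₀
  have htx : M.t * x = x * M.t := hx.comm.symm
  have hnn : nn x M.t = 120960 := by
    have hct : (M.K.π (xc htx)).cycleType = {3} := hx.cyc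
    rcases CpAutLy.Types.cases M hx3 htx with h | h | h
    · exact h.2
    · exfalso
      have h3 := h.1
      rw [hct] at h3
      revert h3
      decide
    · exfalso
      have h3 := h.1
      rw [hct] at h3
      revert h3
      decide
  obtain ⟨g, hg⟩ := exists_conj_of_nn M hx3 M.orderOf_t htx hnn h₀.ord hs hsx hsn
  exact ⟨L, f, hf, x, g, hg, (extra hf).card_three x (mem_Sx_of_three hf hx.comm hx.pow hxf) hx1 hx.pow
    ⟨e, he, hef, hex⟩⟩

/-- an element of order five of `C(x₀)` does not centralize a Sylow 3-subgroup -/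
theorem not_five {x₀ : Cfsg.Spor.Ly} (h₀ : CpAutLy.Base.Three x₀) {y : Cfsg.Spor.Ly} (hy : orderOf y = 5)
    (hyx : y * x₀ = x₀ * y) : ¬ 3 ^ 7 ∣ Nat.card ↥(centralizer ({y} : Set Cfsg.Spor.Ly)) := by
  have hfin : Finite Cfsg.Spor.Ly := Ly.Setup.finite_ly
  have h5F : Fact (Nat.Prime 5) := ⟨Nat.prime_five⟩
  obtain ⟨L, f, hf, x, g, hg, hcard⟩ := exists_three_core h₀
  have hcx : Nat.card ↥(centralizer ({x} : Set Cfsg.Spor.Ly)) = 2694384000 := by
    rw [CpAutLy.McLThree.card_cent_conj hg, Ly67.card_cent_three h₀]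
  -- a Sylow 5-subgroup of `C(x)` in `E`
  set Q := (core f).subgroupOf (centralizer ({x} : Set Cfsg.Spor.Ly)) with hQ
  have hQc : Nat.card ↥Q = 5 ^ 3 := by
    rw [← hcard, inf_comm, ← Subgroup.card_map_of_injective (centralizer ({x} : Set Cfsg.Spor.Ly)).subtype_injective,
      hQ, subgroupOf_map_subtype, inf_comm]
  have hQp : IsPGroup 5 ↥Q := IsPGroup.of_card hQc
  obtain ⟨S, hS⟩ := hQp.exists_le_sylow
  have hSc : Nat.card ↥(S : Subgroup ↥(centralizer ({x} : Set Cfsg.Spor.Ly))) ∣ 5 ^ 3 := by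
    obtain ⟨n, hn⟩ := IsPGroup.iff_card.1 S.isPGroup'
    have h1 : Nat.card ↥(S : Subgroup ↥(centralizer ({x} : Set Cfsg.Spor.Ly))) ∣ 2694384000 := by
      rw [← hcx]
      exact card_subgroup_dvd_card _
    rw [hn] at h1 ⊢
    have h4 : n ≤ 3 := by
      by_contra hcon
      have h6 : 5 ^ 4 ∣ 2694384000 := (pow_dvd_pow 5 (by omega)).trans h1
      revert h6
      norm_num
    exact pow_dvd_pow 5 h4
  have hQS : Q = (S : Subgroup ↥(centralizer ({x} : Set Cfsg.Spor.Ly))) := by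
    apply eq_of_le_of_card_ge hS
    rw [hQc]
    exact Nat.le_of_dvd (by norm_num) hSc
  -- `y' = g⁻¹ y g`
  have hy'x : g⁻¹ * y * g * x = x * (g⁻¹ * y * g) := by
    have h1 := CpAutLy.McLThree.conj_comm g⁻¹ hyx
    rw [inv_inv] at h1
    have h2 : g⁻¹ * x₀ * g = x := by rw [← hg]; group
    rwa [h2] at h1
  have hy' : orderOf (g⁻¹ * y * g) = 5 := by
    have h1 := CpAutLy.McLThree.orderOf_conj' g⁻¹ y
    rw [inv_inv] at h1
    rw [h1, hy]
  let y' : ↥(centralizer ({x} : Set Cfsg.Spor.Ly)) := ⟨g⁻¹ * y * g, mem_centralizer_singleton_iff.2 hy'x⟩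
  have hy'o : orderOf y' = 5 := by rw [Subgroup.orderOf_mk]; exact hy'
  obtain ⟨T, hT⟩ := (IsPGroup.of_card (p := 5) (n := 1) (G := ↥(zpowers y'))
    (by rw [Nat.card_zpowers, hy'o, pow_one])).exists_le_sylow
  obtain ⟨c, hc⟩ := MulAction.exists_smul_eq ↥(centralizer ({x} : Set Cfsg.Spor.Ly)) T S
  have hu : c * y' * c⁻¹ ∈ Q := by
    rw [hQS, ← hc]
    exact ⟨y', hT (mem_zpowers y'), rfl⟩
  have hu' : ((c * y' * c⁻¹ : ↥(centralizer ({x} : Set Cfsg.Spor.Ly))) : Cfsg.Spor.Ly) ∈ core f := mem_subgroupOf.1 hu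
  have hcu : ((c * y' * c⁻¹ : ↥(centralizer ({x} : Set Cfsg.Spor.Ly))) : Cfsg.Spor.Ly) =
      ((c : Cfsg.Spor.Ly) * g⁻¹) * y * ((c : Cfsg.Spor.Ly) * g⁻¹)⁻¹ := by
    change (c : Cfsg.Spor.Ly) * (g⁻¹ * y * g) * (c : Cfsg.Spor.Ly)⁻¹ = _
    group
  rw [hcu] at hu'
  intro h
  refine not_dvd_core hf Ly.Setup.card_ly hu' ?_ ?_
  · intro h1
    rw [conj_eq_one_iff] at h1
    rw [h1, orderOf_one] at hy
    omega
  · rwa [← CpAutLy.McLThree.card_cent_conj (x := y) (g := (c : Cfsg.Spor.Ly) * g⁻¹) rfl]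

/-- an element of order eleven of `C(x₀)` does not centralize a Sylow 3-subgroup -/
theorem not_eleven {x₀ : Cfsg.Spor.Ly} (h₀ : CpAutLy.Base.Three x₀) {y : Cfsg.Spor.Ly} (hy : orderOf y = 11)
    (hyx : y * x₀ = x₀ * y) {P : Subgroup Cfsg.Spor.Ly} (hP : Nat.card ↥P = 3 ^ 7)
    (hPx : P ≤ centralizer ({x₀} : Set Cfsg.Spor.Ly)) (hPy : ∀ p ∈ P, p * y = y * p) : False := by
  have hfin : Finite Cfsg.Spor.Ly := Ly.Setup.finite_ly
  have h11F : Fact (Nat.Prime 11) := ⟨by norm_num⟩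
  set C := centralizer ({x₀} : Set Cfsg.Spor.Ly) with hC
  let π := QuotientGroup.mk' (center ↥C)
  let y' : ↥C := ⟨y, mem_centralizer_singleton_iff.2 hyx⟩
  have hy' : orderOf y' = 11 := by rw [Subgroup.orderOf_mk]; exact hy
  have hyc : y' ∉ center ↥C := by
    intro h
    have h1 := (center ↥C).orderOf_dvd_natCard h
    rw [hy', h₀.zcard] at h1
    revert h1
    decide
  have hyb : orderOf (π y') = 11 := CpAutLy.Row.orderOf_mk (by norm_num) hy' hyc
  obtain ⟨h1, -⟩ := H904.McLCent.eleven h₀.quot (zpowers (π y')) (by rw [Nat.card_zpowers, hyb])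
  -- the image of `P`
  set P' := P.subgroupOf C with hP'
  have hP'c : Nat.card ↥P' = 3 ^ 7 := by
    rw [← hP]
    exact Nat.card_congr (Subgroup.subgroupOfEquivOfLe hPx).toEquiv
  have hle : P'.map π ≤ centralizer ((zpowers (π y') : Subgroup _) : Set (↥C ⧸ center ↥C)) := by
    rintro _ ⟨p, hp, rfl⟩
    rw [mem_centralizer_iff]
    rintro _ ⟨n, rfl⟩
    have h2 : Commute p y' := Subtype.ext (hPy p (mem_subgroupOf.1 hp))
    have h3 : Commute (π p) (π y') := h2.map π
    exact (h3.zpow_right n).eq.symm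
  have h2 := card_dvd_of_le hle
  rw [h1] at h2
  -- the order of the image
  have h3 : Nat.card ↥P' ∣ Nat.card ↥(center ↥C) * Nat.card ↥(P'.map π) := by
    have h4 := (π.comp P'.subtype).ker.card_mul_index
    rw [index_ker] at h4
    have h5 : (π.comp P'.subtype).range = P'.map π := by rw [MonoidHom.range_comp, range_subtype]
    rw [h5] at h4
    rw [← h4]
    refine Nat.mul_dvd_mul ?_ (dvd_refl _)
    have h6 : (π.comp P'.subtype).ker.map P'.subtype ≤ center ↥C := by
      rintro _ ⟨q, hq, rfl⟩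
      have h7 : π (q : ↥C) = 1 := hq
      exact (QuotientGroup.eq_one_iff _).1 h7
    have h8 := card_dvd_of_le h6
    rwa [card_map_of_injective P'.subtype_injective] at h8
  rw [hP'c, h₀.zcard] at h3
  have h4 := h3.trans (Nat.mul_dvd_mul (dvd_refl 3) h2)
  revert h4
  decide

/-- **`NB 3 1 Ly`** -/
theorem nb : Cfsg.Agent.H709.PB.NB 3 1 Cfsg.Spor.Ly := by
  have hfin : Finite Cfsg.Spor.Ly := Ly.Setup.finite_ly
  have h3F : Fact (Nat.Prime 3) := ⟨Nat.prime_three⟩
  obtain ⟨x₀, h₀⟩ := exists_three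
  obtain ⟨L, f, hf⟩ := exists_lyType
  have hcx := Ly67.card_cent_three h₀
  let x' : ↥(centralizer ({x₀} : Set Cfsg.Spor.Ly)) := ⟨x₀, mem_centralizer_singleton_iff.2 rfl⟩
  have hx'o : orderOf x' = 3 := by rw [Subgroup.orderOf_mk]; exact h₀.ord
  obtain ⟨T, hT⟩ := (IsPGroup.of_card (p := 3) (n := 1) (G := ↥(zpowers x'))
    (by rw [Nat.card_zpowers, hx'o, pow_one])).exists_le_sylow
  have hT7 : 3 ^ 7 ∣ Nat.card ↥T := T.pow_dvd_card_of_pow_dvd_card (by rw [hcx]; norm_num)
  set P := (T : Subgroup ↥(centralizer ({x₀} : Set Cfsg.Spor.Ly))).map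
    (centralizer ({x₀} : Set Cfsg.Spor.Ly)).subtype with hPdef
  have hPT : Nat.card ↥P = Nat.card ↥T := card_map_of_injective (subtype_injective _)
  have hP3 : IsPGroup 3 ↥P := T.isPGroup'.map _
  have hP : Nat.card ↥P = 3 ^ 7 := by
    obtain ⟨n, hn⟩ := IsPGroup.iff_card.1 hP3
    have h1 : Nat.card ↥P ∣ 51765179004000000 := by
      rw [← Ly.Setup.card_ly]
      exact card_subgroup_dvd_card _
    rw [← hPT] at hT7
    rw [hn] at h1 hT7 ⊢
    have h2 := (Nat.pow_dvd_pow_iff_le_right (by norm_num : 1 < 3)).1 hT7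
    have h4 : n ≤ 7 := by
      by_contra hcon
      have h6 : 3 ^ 8 ∣ 51765179004000000 := (pow_dvd_pow 3 (by omega)).trans h1
      revert h6
      norm_num
    rw [le_antisymm h4 h2]
  have hx₀P : x₀ ∈ P := ⟨x', hT (mem_zpowers x'), rfl⟩
  obtain ⟨S, hS⟩ := hP3.exists_le_sylow
  refine Cfsg.Agent.H709.PB.NB.of_sylow S ?_
  refine (H394.PBTools.isPGroup_of_primes _ fun r hr hr3 hd => ?_)
  have hrF : Fact r.Prime := ⟨hr⟩
  obtain ⟨y', hy'⟩ := exists_prime_orderOf_dvd_card' r hd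
  obtain ⟨y, hyC, hy⟩ : ∃ y : Cfsg.Spor.Ly, y ∈ centralizer ((S : Subgroup Cfsg.Spor.Ly) : Set Cfsg.Spor.Ly) ∧
      orderOf y = r := ⟨y', y'.2, by rw [Subgroup.orderOf_coe, hy']⟩
  rw [mem_centralizer_iff] at hyC
  have hPy : ∀ p ∈ P, p * y = y * p := fun p hp => hyC p (hS hp)
  have hyx : y * x₀ = x₀ * y := (hPy x₀ hx₀P).symm
  have h7 : 3 ^ 7 ∣ Nat.card ↥(centralizer ({y} : Set Cfsg.Spor.Ly)) := by
    rw [← hP]
    exact card_dvd_of_le fun p hp => mem_centralizer_singleton_iff.2 (hPy p hp)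
  have hr' : r ∣ 2694384000 := by
    have h1 := (centralizer ({x₀} : Set Cfsg.Spor.Ly)).orderOf_dvd_natCard (mem_centralizer_singleton_iff.2 hyx)
    rwa [hy, hcx] at h1
  rw [show 2694384000 = 2 ^ 7 * 3 ^ 7 * 5 ^ 3 * 7 * 11 by norm_num, hr.dvd_mul, hr.dvd_mul, hr.dvd_mul,
    hr.dvd_mul] at hr'
  rcases hr' with (((h | h) | h) | h) | h
  · have := (Nat.prime_dvd_prime_iff_eq hr Nat.prime_two).1 (hr.dvd_of_dvd_pow h)
    subst this
    rw [card_inv L hy] at h7
    revert h7
    norm_num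
  · exact hr3 ((Nat.prime_dvd_prime_iff_eq hr Nat.prime_three).1 (hr.dvd_of_dvd_pow h))
  · have := (Nat.prime_dvd_prime_iff_eq hr Nat.prime_five).1 (hr.dvd_of_dvd_pow h)
    subst this
    exact not_five h₀ hy hyx h7
  · have := (Nat.prime_dvd_prime_iff_eq hr (by norm_num : Nat.Prime 7)).1 h
    subst this
    have h8 : Nat.card ↥(centralizer ({y} : Set Cfsg.Spor.Ly)) ∣ 1008 := by
      rw [← H314.LyOrb.card_normalizer_seven hy]
      exact card_dvd_of_le (Ly67.cent_le_normalizer y)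
    have h9 := h7.trans h8
    revert h9
    decide
  · have := (Nat.prime_dvd_prime_iff_eq hr (by norm_num : Nat.Prime 11)).1 h
    subst this
    exact not_eleven h₀ hy hyx hP (map_subtype_le _) hPy

end Cfsg.Agent.H799.PB.Ly3
end

-- part: H204/Ore/LyEven
section
set_option linter.all false
open scoped Cfsg.Agent.FastGrp

/-!
# ORE (S2443), row Ly: the centralizers of the elements of even order (helper204)

`card_le_even` : `|C(g)| ≤ 120960` for `g` of even order, `g² ≠ 1`.
-/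

set_option autoImplicit false

namespace Cfsg.Agent.H204.Ore.LyEven

open Subgroup Equiv Cfsg
open Cfsg.Agent Cfsg.Agent.SporRec Cfsg.Agent.SporRec.TwoAn Cfsg.Agent.SporRec.LyType Cfsg.Agent.SporRec.LyFiveCore
open Cfsg.Agent.TypeM.McLFromLy Cfsg.Agent.CpAutLy.Types Cfsg.Agent.CpAutLy.Cov

universe u

variable {G : Type u} [Group G] [Finite G]

theorem cent_pow_le (g : G) (k : ℕ) : centralizer ({g} : Set G) ≤ centralizer ({g ^ k} : Set G) := by
  intro x hx
  rw [mem_centralizer_singleton_iff] at hx ⊢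
  exact ((show Commute x g from hx).pow_right k).eq

theorem card_cent_le_of_pow (g : G) (k : ℕ) :
    Nat.card (centralizer ({g} : Set G)) ≤ Nat.card (centralizer ({g ^ k} : Set G)) :=
  Nat.le_of_dvd Nat.card_pos (card_dvd_of_le (cent_pow_le g k))

/-- a power of prime order -/
theorem exists_pow_prime {g : G} {r : ℕ} (hr : r.Prime) (h : r ∣ orderOf g) : ∃ k : ℕ, orderOf (g ^ k) = r := by
  obtain ⟨m, hm⟩ := h
  have hm0 : m ≠ 0 := by
    rintro rfl
    rw [mul_zero] at hm
    exact (orderOf_pos g).ne' hm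
  refine ⟨m, ?_⟩
  rw [orderOf_pow' _ hm0, hm, Nat.gcd_mul_left_left, Nat.mul_div_cancel _ (Nat.pos_of_ne_zero hm0)]

/-- elements of order 4 -/
theorem card_le_four (L : LyType G) {h : G} (hh : orderOf h = 4) : Nat.card (centralizer ({h} : Set G)) ≤ 80640 := by
  have h2 : orderOf (h * h) = 2 := by
    rw [← pow_two, orderOf_pow' _ (by norm_num), hh]
    decide
  have h3 : h * h * (h * h) = 1 := by rw [← pow_two (h * h), ← h2, pow_orderOf_eq_one]
  have h4 : h * h ≠ 1 := by
    intro h5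
    rw [h5, orderOf_one] at h2
    norm_num at h2
  obtain ⟨L', hL'⟩ := L.exists_rebase h3 h4
  have hth : L'.t * h = h * L'.t := by rw [hL', mul_assoc]
  set y := xc hth with hy
  have hyy : y * y = L'.K.z := Subtype.ext (hL'.symm.trans L'.hz.symm)
  have hσ : L'.K.π y * L'.K.π y = 1 := by rw [← map_mul, hyy, L'.K.π_z]
  have h8 : ¬ 8 ∣ (L'.K.π y).support.card := by
    intro h8
    have := L'.K.sq_eq_one_iff.2 ⟨hσ, h8⟩
    rw [hyy] at this
    exact L'.K.z_ne this
  have h11 : (L'.K.π y).support.card ≤ 11 := (Finset.card_le_univ _).trans (by simp)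
  have hs : (L'.K.π y).support.card = 4 := by
    obtain ⟨k, hk⟩ := L'.K.four_dvd hσ
    omega
  have hct := LyType.cycleType_of_involution hσ (k := 2) hs
  have h5 := CpAut.Cyc.card_cent_dvd L'.K y
  have h6 : Nat.card (centralizer ({L'.K.π y} : Set (Perm (Fin 11)))) = 40320 := by
    rw [Equiv.Perm.nat_card_centralizer, hct]
    decide
  rw [h6, nn_eq hth] at h5
  have h7 : nn h L'.t = Nat.card (centralizer ({h} : Set G)) := by
    unfold nn
    have : centralizer ({h} : Set G) ⊓ centralizer ({L'.t} : Set G) = centralizer ({h} : Set G) := by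
      rw [inf_eq_left, hL', ← pow_two]
      exact cent_pow_le h 2
    rw [this]
  rw [← h7]
  exact Nat.le_of_dvd (by norm_num) h5

/-- **elements of even order** -/
theorem card_le_even (L : LyType G) {f : G} (hf : Five L f) {g : G} (h2 : 2 ∣ orderOf g) (hg : g * g ≠ 1) :
    Nat.card (centralizer ({g} : Set G)) ≤ 120960 := by
  obtain ⟨k, hk⟩ := exists_pow_prime Nat.prime_two h2
  by_cases hr : ∃ r : ℕ, r.Prime ∧ r ≠ 2 ∧ r ∣ orderOf g
  · obtain ⟨r, hr, hr2, hrd⟩ := hr
    obtain ⟨l, hl⟩ := exists_pow_prime hr hrd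
    have hc : g ^ k * g ^ l = g ^ l * g ^ k := by rw [← pow_add, ← pow_add, add_comm]
    have h1 : Nat.card (centralizer ({g} : Set G)) ≤ nn (g ^ l) (g ^ k) :=
      Nat.le_of_dvd Nat.card_pos (card_dvd_of_le (le_inf (cent_pow_le g l) (cent_pow_le g k)))
    refine h1.trans ?_
    rcases H799.PB.nn_table L hf hr hr2 hl hk hc with ⟨-, h | h | h⟩ | ⟨-, ⟨-, h⟩ | h⟩ | ⟨-, h⟩ | ⟨-, h⟩
    · rw [h]
    · rw [h]; norm_num
    · rw [h]; norm_num
    · rw [h]; norm_num
    · exact (Nat.le_of_dvd (by norm_num) h).trans (by norm_num)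
    · rw [h]; norm_num
    · exact (Nat.le_of_dvd (by norm_num) h).trans (by norm_num)
  · push Not at hr
    have h4 : 4 ∣ orderOf g := by
      obtain ⟨m, hm⟩ := h2
      have hm1 : m ≠ 1 := by
        rintro rfl
        apply hg
        rw [← pow_two, ← mul_one 2, ← hm, pow_orderOf_eq_one]
      obtain ⟨p, hp, hpm⟩ := Nat.exists_prime_and_dvd hm1
      have hp2 : p = 2 := by
        by_contra h
        exact hr p hp h (hm ▸ hpm.mul_left 2)
      rw [hm]
      subst hp2
      exact Nat.mul_dvd_mul_left 2 hpm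
    obtain ⟨m, hm⟩ := h4
    have hm0 : m ≠ 0 := by
      rintro rfl
      rw [mul_zero] at hm
      exact (orderOf_pos g).ne' hm
    have h5 : orderOf (g ^ m) = 4 := by
      rw [orderOf_pow' _ hm0, hm, Nat.gcd_mul_left_left, Nat.mul_div_cancel _ (Nat.pos_of_ne_zero hm0)]
    exact (card_cent_le_of_pow g m).trans ((card_le_four L h5).trans (by norm_num))

end Cfsg.Agent.H204.Ore.LyEven
end

-- part: H204/Ore/LyFive
section
set_option linter.all false
open scoped Cfsg.Agent.FastGrp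

/-!
# ORE (S2443), row Ly: elements of order 5 (helper204)

* `conj_into_core` : elements of order 5 commuting with an involution are conjugate into `E = O(C(f))`;
* `three_part` : `3 ^ 3` does not divide `|C(u)|`, `1 ≠ u ∈ E`;
* `not_dvd_of_odd` : a 3-element with centralizer of odd order commutes with no group of order `5 ^ 4`.
-/

set_option autoImplicit false

namespace Cfsg.Agent.H204.Ore.LyFive

open Subgroup Equiv Cfsg
open Cfsg.Agent Cfsg.Agent.SporRec Cfsg.Agent.SporRec.TwoAn Cfsg.Agent.SporRec.LyType Cfsg.Agent.SporRec.LyFiveCore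
open Cfsg.Agent.SporRec.LyFiveSix Cfsg.Agent.SporRec.LyFiveFrame Cfsg.Agent.SporRec.LyFiveTwenty
open Cfsg.Agent.TypeM.McLFromLy Cfsg.Agent.CpAutLy.Types Cfsg.Agent.CpAutLy.Cov
open Cfsg.Agent.H799.PB Cfsg.Agent.H582.Ly

universe u

variable {G : Type u} [Group G] [Finite G] {L : LyType G} {f : G}

/-- elements of order 5 commuting with an involution are conjugate into `E` -/
theorem conj_into_core (hf : Five L f) {w s : G} (hw : orderOf w = 5) (hs : orderOf s = 2) (hsw : s * w = w * s) :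
    ∃ g : G, g * w * g⁻¹ ∈ core f := by
  obtain ⟨-, hv25⟩ := card_core_of_dvd hf (LyA1.dvd_card_core hf)
  obtain ⟨v, _, _, hv, hv1, -, hvt, hvf, -⟩ := exists_vwh hf
  have h25 := hv25 v hv hvt hvf
  obtain ⟨h1, h2⟩ := TypeM.Two.MT.sq_of_orderOf hs
  obtain ⟨g₀, hg₀⟩ := L.conj_of_involutions h1 h2 hv hv1
  have hwv : g₀ * w * g₀⁻¹ * v = v * (g₀ * w * g₀⁻¹) := by
    rw [← hg₀]
    exact (CpAutLy.McLThree.conj_comm g₀ hsw).symm
  set V := centralizer ({v} : Set G) with hVdef
  have hov : orderOf v = 2 := by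
    have : Fact (Nat.Prime 2) := ⟨Nat.prime_two⟩
    exact orderOf_eq_prime (by rw [pow_two, hv]) hv1
  have hV : Nat.card V = 39916800 := H513.NilpLy.card_inv L hov
  set B : Subgroup V := (core f ⊓ V).subgroupOf V with hB
  have hBc : Nat.card B = 25 := by
    rw [← h25]
    exact Nat.card_congr (Subgroup.subgroupOfEquivOfLe inf_le_right).toEquiv
  have hidx : ¬ 5 ∣ B.index :=
    not_dvd_index (k := 2) (a := 1596672) (b := 1) (by rw [hV]; norm_num) (by rw [hBc]; norm_num) Nat.prime_five (by norm_num)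
  obtain ⟨c, hc⟩ := exists_conj_le Nat.prime_five (A := zpowers (⟨g₀ * w * g₀⁻¹, mem_centralizer_singleton_iff.2 hwv⟩ : V))
    (isPGroup_zpowers' Nat.prime_five (by rw [Subgroup.orderOf_mk, CpAutLy.McLThree.orderOf_conj', hw])) hidx
  have h3 := (mem_subgroupOf.1 (hc _ (mem_zpowers _))).1
  refine ⟨c * g₀, ?_⟩
  have h4 : (c : G) * g₀ * w * ((c : G) * g₀)⁻¹ = c * (g₀ * w * g₀⁻¹) * (c : G)⁻¹ := by group
  rw [h4]
  exact h3

/-- `3 ^ 3` does not divide the order of the automorphism group of a group of order dividing `5 ^ 5` -/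
theorem not_dvd_aut {R : Type u} [Group R] [Finite R] (hR : Nat.card R ∣ 5 ^ 5) : ¬ 3 ^ 3 ∣ Nat.card (MulAut R) := by
  intro h
  have : Fact (Nat.Prime 5) := ⟨Nat.prime_five⟩
  obtain ⟨n, hn, hn'⟩ := (Nat.dvd_prime_pow Nat.prime_five).1 hR
  have h1 : (frattini R).index ∣ 5 ^ n := by rw [← hn']; exact (frattini R).index_dvd_card
  obtain ⟨r, hr, hr'⟩ := (Nat.dvd_prime_pow Nat.prime_five).1 h1
  have h2 := h.trans (H541.AutFrattini.card_aut_dvd hn' hr')
  have h3 : (3 ^ 3 : ℕ).Coprime (5 ^ (r * (n - r))) := Nat.Coprime.pow _ _ (by norm_num)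
  have h4 := h3.dvd_of_dvd_mul_left h2
  have h5 : r ≤ 5 := hr.trans hn
  interval_cases r <;> revert h4 <;> decide

/-- `5 ^ 6` divides the order of the centralizer only for the conjugates of `⟨f⟩` -/
theorem exists_of_six (hf : Five L f) (hcard : Nat.card G = 51765179004000000) {u : G}
    (h : 5 ^ 6 ∣ Nat.card (centralizer ({u} : Set G))) : ∃ g : G, g * u * g⁻¹ ∈ zpowers f := by
  have : Fact (Nat.Prime 5) := ⟨Nat.prime_five⟩
  obtain ⟨T, hT⟩ := Sylow.exists_subgroup_card_pow_prime 5 h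
  set T' := T.map (centralizer ({u} : Set G)).subtype with hT'
  have hT'c : Nat.card T' = 5 ^ 6 := by rw [hT', card_map_of_injective (subtype_injective _), hT]
  obtain ⟨S, hES, -, hS6⟩ := exists_sylow hf hcard
  have hS6' : Nat.card (S : Subgroup G) = 5 ^ 6 := hS6
  have hidx : ¬ 5 ∣ (S : Subgroup G).index :=
    not_dvd_index (k := 6) (a := 3312971456256) (b := 1) (by rw [hcard]; norm_num) (by rw [hS6', mul_one])
      Nat.prime_five (by norm_num)
  obtain ⟨g, hg⟩ := exists_conj_le Nat.prime_five (IsPGroup.of_card hT'c) hidx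
  have hle : T'.map (MulAut.conj g).toMonoidHom ≤ (S : Subgroup G) := by
    rintro _ ⟨x, hx, rfl⟩
    exact hg x hx
  have heq : T'.map (MulAut.conj g).toMonoidHom = (S : Subgroup G) := by
    apply eq_of_le_of_card_ge hle
    rw [hS6', card_map_of_injective (MulAut.conj g).injective, hT'c]
  refine ⟨g, ?_⟩
  have hcomm : ∀ e ∈ core f, e * (g * u * g⁻¹) = g * u * g⁻¹ * e := by
    intro e he
    have h1 : e ∈ T'.map (MulAut.conj g).toMonoidHom := by rw [heq]; exact hES he
    obtain ⟨x, hx, hxe⟩ := h1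
    obtain ⟨y, -, rfl⟩ := hx
    have h2 : (y : G) * u = u * y := mem_centralizer_singleton_iff.1 y.2
    have hxe' : g * (y : G) * g⁻¹ = e := hxe
    rw [← hxe']
    exact CpAutLy.McLThree.conj_comm g h2
  have h1 : g * u * g⁻¹ ∈ core f := cent_core_le hf (mem_centralizer_iff.2 fun e he => hcomm e he)
  exact (H799.PB.extra hf).center _ h1 fun k hk => (hcomm k hk).symm

/-- the 3-part of the centralizers of the elements of `E` -/
theorem three_part (hf : Five L f) (hcard : Nat.card G = 51765179004000000) {u : G} (hu : u ∈ core f) (hu1 : u ≠ 1) :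
    ¬ 3 ^ 3 ∣ Nat.card (centralizer ({u} : Set G)) := by
  have h5F : Fact (Nat.Prime 5) := ⟨Nat.prime_five⟩
  have h3F : Fact (Nat.Prime 3) := ⟨Nat.prime_three⟩
  by_cases hA : ∃ g : G, g * u * g⁻¹ ∈ zpowers f
  · obtain ⟨g, hg⟩ := hA
    rw [CpAutLy.McLThree.card_cent_conj (x := u) (g := g) rfl, Ly3.cent_eq hf hg (fun h => hu1 (conj_eq_one_iff.1 h)),
      (H799.PB.extra hf).card_centralizer]
    norm_num
  · have h6 : ¬ 5 ^ 6 ∣ Nat.card (centralizer ({u} : Set G)) := fun h => hA (exists_of_six hf hcard h)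
    push Not at hA
    have hno : ∀ g : G, g * u * g⁻¹ ≠ f := fun g hg => hA g (by rw [hg]; exact mem_zpowers f)
    have huF : u ∉ zpowers f := by
      have := hA 1
      rwa [one_mul, inv_one, mul_one] at this
    intro h
    have hC := centric hf hcard hu huF hno
    obtain ⟨P, hP⟩ := Sylow.exists_subgroup_card_pow_prime 3 (G := ↥(centralizer ({u} : Set G))) (n := 3) h
    have h1 := Ly3.card_dvd_of_centric hC P (by rw [hP]; norm_num)
    rw [hP] at h1
    refine not_dvd_aut ?_ h1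
    have h2 : IsPGroup 5 ↥(pCore 5 ↥(centralizer ({u} : Set G))) := Cfsg.Agent.Lib.Cores.pCore_isPGroup 5
    obtain ⟨n, hn⟩ := IsPGroup.iff_card.1 h2
    have h3 : Nat.card ↥(pCore 5 ↥(centralizer ({u} : Set G))) ∣ Nat.card (centralizer ({u} : Set G)) :=
      card_subgroup_dvd_card _
    rw [hn] at h3 ⊢
    have h4 : n ≤ 5 := by
      by_contra hcon
      exact h6 ((pow_dvd_pow 5 (by omega)).trans h3)
    exact pow_dvd_pow 5 h4

/-- 5-subgroups of order at least `5 ^ 4` contain a conjugate of `f` -/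
theorem exists_conj_mem (hf : Five L f) (h7 : ¬ 5 ^ 7 ∣ Nat.card G) {B : Subgroup G} (hB : IsPGroup 5 ↥B)
    (hd : 5 ^ 4 ∣ Nat.card ↥B) : ∃ g : G, g * f * g⁻¹ ∈ B := by
  have hE := H799.PB.extra hf
  have hin := LyFiveSix.fiveIn hf hE.card
  refine H513.NilpTools.exists_conj_mem_of_extra Nat.prime_five hin.f5 (E := core f) hE.card hin.mem hin.cent
    (fun g hg e he => hin.norm g ?_ e he) hE.commutator hE.center ?_ h7 hB hd
  · rw [hg, mul_inv_cancel_right]
    exact mem_zpowers f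
  · rw [hin.card_centralizer]
    norm_num

theorem nn_five (hf : Five L f) : nn f L.t = 3600 := by
  rw [← nn_eq hf.comm.symm]
  have h1 : (xc hf.comm.symm) ^ 5 = 1 := Subtype.ext hf.pow
  have h2 : xc hf.comm.symm ≠ 1 := fun h => f_ne hf (congrArg Subtype.val h)
  have hct : (L.K.π (xc hf.comm.symm)).cycleType = {5} := by
    have h1 : (L.K.π (xc hf.comm.symm)).IsCycle := hf.cyc
    rw [h1.cycleType]
    exact congrArg (fun n : ℕ => ({n} : Multiset ℕ)) hf.card
  rcases cent_cases L.K Nat.prime_five (by norm_num) h1 h2 with ⟨h, -⟩ | ⟨-, ⟨-, h⟩ | ⟨h, -⟩⟩ | ⟨h, -⟩ | ⟨h, -⟩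
  · omega
  · exact h
  · rw [hct] at h
    exact absurd h (by decide)
  · omega
  · omega

/-- a 3-element commuting with `f` commutes with an involution -/
theorem exists_inv_of_comm (hf : Five L f) {g : G} {a : ℕ} (hg : orderOf g = 3 ^ a) (hgf : g * f = f * g) :
    ∃ s : G, orderOf s = 2 ∧ s * g = g * s := by
  set C := centralizer ({f} : Set G) with hC
  have hCc : Nat.card C = 2250000 := by rw [hC, (H799.PB.extra hf).card_centralizer]; norm_num
  set B : Subgroup C := (C ⊓ centralizer ({L.t} : Set G)).subgroupOf C with hB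
  have hBc : Nat.card B = 3600 := by
    rw [← nn_five hf]
    exact Nat.card_congr (Subgroup.subgroupOfEquivOfLe inf_le_left).toEquiv
  have hidx : ¬ 3 ∣ B.index :=
    not_dvd_index (k := 2) (a := 250000) (b := 400) (by rw [hCc]; norm_num) (by rw [hBc]; norm_num) Nat.prime_three (by norm_num)
  obtain ⟨c, hc⟩ := exists_conj_le Nat.prime_three (A := zpowers (⟨g, mem_centralizer_singleton_iff.2 hgf⟩ : C))
    (IsPGroup.of_card (n := a) (by rw [Nat.card_zpowers, Subgroup.orderOf_mk, hg])) hidx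
  have h3 := (mem_subgroupOf.1 (hc _ (mem_zpowers _))).2
  have h4 : (c : G) * g * (c : G)⁻¹ * L.t = L.t * ((c : G) * g * (c : G)⁻¹) := mem_centralizer_singleton_iff.1 h3
  refine ⟨(c : G)⁻¹ * L.t * c, ?_, ?_⟩
  · have h5 := CpAutLy.McLThree.orderOf_conj' (c : G)⁻¹ L.t
    rw [inv_inv] at h5
    rw [h5]
    exact H513.NilpLy.order_t L
  · have h5 := CpAutLy.McLThree.conj_comm (c : G)⁻¹ h4
    have h6 : (c : G)⁻¹ * ((c : G) * g * (c : G)⁻¹) * (c : G)⁻¹⁻¹ = g := by group
    rw [h6, inv_inv] at h5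
    exact h5.symm

/-- a 3-element with centralizer of odd order -/
theorem not_dvd_of_odd (hf : Five L f) (h7 : ¬ 5 ^ 7 ∣ Nat.card G) {g : G} {a : ℕ} (hg : orderOf g = 3 ^ a)
    (hodd : ¬ 2 ∣ Nat.card (centralizer ({g} : Set G))) : ¬ 5 ^ 4 ∣ Nat.card (centralizer ({g} : Set G)) := by
  have h5F : Fact (Nat.Prime 5) := ⟨Nat.prime_five⟩
  intro h
  obtain ⟨T, hT⟩ := Sylow.exists_subgroup_card_pow_prime 5 h
  set T' := T.map (centralizer ({g} : Set G)).subtype with hT'
  have hT'c : Nat.card T' = 5 ^ 4 := by rw [hT', card_map_of_injective (subtype_injective _), hT]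
  obtain ⟨c, hc⟩ := exists_conj_mem hf h7 (IsPGroup.of_card hT'c) (by rw [hT'c])
  obtain ⟨y, -, hy⟩ := hc
  have hyg : (y : G) * g = g * y := mem_centralizer_singleton_iff.1 y.2
  have hy' : (y : G) = c * f * c⁻¹ := hy
  rw [hy'] at hyg
  have h1 := CpAutLy.McLThree.conj_comm c⁻¹ hyg
  have h2 : c⁻¹ * (c * f * c⁻¹) * c⁻¹⁻¹ = f := by group
  rw [h2] at h1
  obtain ⟨s, hs, hsg⟩ := exists_inv_of_comm hf (g := c⁻¹ * g * c⁻¹⁻¹) (a := a)
    (by rw [CpAutLy.McLThree.orderOf_conj', hg]) h1.symm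
  have h3 := CpAutLy.McLThree.conj_comm c hsg
  have h4 : c * (c⁻¹ * g * c⁻¹⁻¹) * c⁻¹ = g := by group
  rw [h4] at h3
  apply hodd
  have h5 := Subgroup.orderOf_dvd_natCard (centralizer ({g} : Set G)) (mem_centralizer_singleton_iff.2 h3)
  rwa [CpAutLy.McLThree.orderOf_conj', hs] at h5

end Cfsg.Agent.H204.Ore.LyFive
end

-- part: H799/PB/RowLy
section
set_option linter.all false
open scoped Cfsg.Agent.FastGrp

/-!
# S4826: the row of the Lyons group (helper799)

`p ≠ 7` : characters of degrees `4226695` (odd) and `3028266` (prime to 5) are in the principal 2-block, 5-block.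
`p = 7` : `7 * 2 * 3 * 5 ^ 5 * 31 * 67 > √|Ly|`.
-/

set_option autoImplicit false

namespace Cfsg.Agent.H799.PB

open Subgroup Cfsg
open Cfsg.Agent Cfsg.Agent.SporRec Cfsg.Agent.H133.PB Cfsg.Agent.H709.PB Cfsg.Agent.H394.PBTools

universe u

theorem row_seven : Row 7 Cfsg.Spor.Ly := by
  have hfin : Finite Cfsg.Spor.Ly := Cfsg.Agent.Ly.Setup.finite_ly
  have hcard := Cfsg.Agent.Ly.Setup.card_ly
  obtain ⟨L, f, hf⟩ := exists_lyType
  refine Row.of_IM (by norm_num) (H314.IMLy.im_ly' (by norm_num) (by rw [hcard]; norm_num))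
    [(2, 1), (3, 1), (5, 5), (31, 1), (67, 1)] (by decide) ?_ (by rw [hcard]; norm_num)
  intro x hx
  simp only [List.mem_cons, List.not_mem_nil, or_false] at hx
  rcases hx with rfl | rfl | rfl | rfl | rfl
  · exact ⟨by norm_num, by norm_num, by rw [hcard]; norm_num, nb_two_ly⟩
  · exact ⟨by norm_num, by norm_num, by rw [hcard]; norm_num, Ly3.nb⟩
  · exact ⟨by norm_num, by norm_num, by rw [hcard]; norm_num, nb_five_five hf hcard⟩
  · exact ⟨by norm_num, by norm_num, by rw [hcard]; norm_num, Ly31.nb⟩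
  · exact ⟨by norm_num, by norm_num, by rw [hcard]; norm_num, Ly67.nb⟩

/-- **The row of the Lyons group.** -/
theorem row_ly {S : Type u} [Group S] (h : Cfsg.Spor.IsoLy S) {p : ℕ} (hp : p.Prime) (hd : p ∣ Nat.card S) :
    Cfsg.Agent.H133.PB.Row p S := by
  obtain ⟨e⟩ := h
  exact Row.of_equiv e (row_of_seven row_seven hp (by rwa [← Nat.card_congr e.toEquiv]))

end Cfsg.Agent.H799.PB
end
end
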